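import Cfsg.Agent.KFacts.J4.Base
import Cfsg.Agent.KFacts.OutQ
import Cfsg.Agent.KFacts.LargeSheet
import Cfsg.Agent.OddHalf.D8.Sheet
import Cfsg.Agent.J4Type.FusionCent
import Cfsg.Agent.J4Type.FinalGen
import Cfsg.Agent.J4.M24Hom
import Cfsg.Agent.SporadicA.MathieuRecog
import Cfsg.Agent.J4Type.TauMask
import Cfsg.Agent.J4Type.Top
import Cfsg.Agent.S1703
import Cfsg.Agent.OddHalf.D8.Rows
import Cfsg.Agent.FastGrp
import Cfsg.Agent.Prune
set_option linter.all false
prune_inst 0x7ffdfffbfff8fddfffff7e7fffffdffdfffbfffffffffffbfffdfbff5fff4b2fffe5fbafffe8d2fdfff7e2beb0fa7bd3fffffeffef6ffc7ffffdfff45fffffdfffffbd8d71f6bc3e1ffe6ffff3f97fce7f3fffffffffffffffffffffffffffffffffffffffff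
open scoped Cfsg.Agent.FastGrp

-- merged: Cfsg.Agent.KFacts.J4.Irr
section

/-!
# The fourth Janko group: `2^{1+12}.3.M22` acts irreducibly on `Q/⟨z⟩ = F₄⁶`, and only scalars commute with it
-/

set_option autoImplicit false

namespace Cfsg.Agent.KFacts.J4.Irr

open Cfsg Cfsg.Agent.J4Type Cfsg.Agent.KFacts.J4.Base
open SporadicA.FieldFour VCoord CentCoords PreHexLin PreHexA PreHexPerm

/-! ### Linear algebra -/

/-- `x e₀` in the first half -/
def E1 (x : F4) : V6 := (![x, 0, 0], 0)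
/-- `x e₀` in the second half -/
def E2 (x : F4) : V6 := (0, ![x, 0, 0])

/-- the projection on the coordinate 0 of both halves -/
def P0 (v : V6) : V6 := v + MDg v + MDg (MDg v)

theorem P0_eq (v : V6) : P0 v = (![v.1 0, 0, 0], ![v.2 0, 0, 0]) := by
  have h : ∀ x : F4, x + .w * x + .w * (.w * x) = 0 ∧ x + .v * x + .v * (.v * x) = 0 ∧ x + x + x = x := by decide
  refine Prod.ext (funext fun k => ?_) (funext fun k => ?_)
  · fin_cases k
    · exact (h (v.1 0)).2.2
    · exact (h (v.1 1)).1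
    · exact (h (v.1 2)).2.1
  · fin_cases k
    · exact (h (v.2 0)).2.2
    · exact (h (v.2 1)).1
    · exact (h (v.2 2)).2.1

theorem NB_eq (v : V6) : MB01 v + v = (B01 v.2, 0) := by
  refine Prod.ext ?_ ?_
  · show v.1 + B01 v.2 + v.1 = B01 v.2
    rw [add_comm v.1, add_assoc, add_self3, add_zero]
  · exact add_self3 v.2

theorem NC_eq (v : V6) : MC1 v + v = (0, C1 v.1) := by
  refine Prod.ext ?_ ?_
  · exact add_self3 v.1
  · show v.2 + C1 v.1 + v.2 = C1 v.1
    rw [add_comm v.2, add_assoc, add_self3, add_zero]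

theorem sum_eq (v : V6) : v = (E1 (v.1 0) + MSh (E1 (v.1 1)) + MSh (MSh (E1 (v.1 2)))) +
    (E2 (v.2 0) + MSh (E2 (v.2 1)) + MSh (MSh (E2 (v.2 2)))) := by
  refine Prod.ext (funext fun k => ?_) (funext fun k => ?_)
  · fin_cases k
    · show v.1 0 = (v.1 0 + 0 + 0) + (0 + 0 + 0)
      simp
    · show v.1 1 = (0 + v.1 1 + 0) + (0 + 0 + 0)
      simp
    · show v.1 2 = (0 + 0 + v.1 2) + (0 + 0 + 0)
      simp
  · fin_cases k
    · show v.2 0 = (0 + 0 + 0) + (v.2 0 + 0 + 0)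
      simp
    · show v.2 1 = (0 + 0 + 0) + (0 + v.2 1 + 0)
      simp
    · show v.2 2 = (0 + 0 + 0) + (0 + 0 + v.2 2)
      simp

theorem scm_E1 (γ x : F4) : scm γ (E1 x) = E1 (γ * x) := by
  refine Prod.ext (funext fun k => ?_) (funext fun k => ?_)
  · fin_cases k
    · rfl
    · exact mul_zero γ
    · exact mul_zero γ
  · exact mul_zero γ

theorem scm_E2 (γ x : F4) : scm γ (E2 x) = E2 (γ * x) := by
  refine Prod.ext (funext fun k => ?_) (funext fun k => ?_)
  · exact mul_zero γ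
  · fin_cases k
    · rfl
    · exact mul_zero γ
    · exact mul_zero γ

theorem scm_add' (γ : F4) (u v : V6) : scm γ (u + v) = scm γ u + scm γ v :=
  Prod.ext (sc_add γ _ _) (sc_add γ _ _)

theorem scm_MSh' (γ : F4) (v : V6) : scm γ (MSh v) = MSh (scm γ v) := (scm_MSh γ v).symm

/-- **Irreducibility.** -/
theorem all_of_closed (W : V6 → Prop) (hadd : ∀ u v, W u → W v → W (u + v))
    (hsc : ∀ γ v, W v → W (scm γ v)) (hD : ∀ v, W v → W (MDg v)) (hS : ∀ v, W v → W (MSh v))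
    (hB : ∀ v, W v → W (MB01 v)) (hC : ∀ v, W v → W (MC1 v)) {v : V6} (hv : W v) (hne : v ≠ 0) :
    ∀ u, W u := by
  have hP : ∀ v, W v → W (P0 v) := fun v hv => hadd _ _ (hadd _ _ hv (hD _ hv)) (hD _ (hD _ hv))
  have hNB : ∀ v, W v → W (B01 v.2, 0) := fun v hv => by
    rw [← NB_eq]
    exact hadd _ _ (hB _ hv) hv
  have hNC : ∀ v, W v → W (0, C1 v.1) := fun v hv => by
    rw [← NC_eq]
    exact hadd _ _ (hC _ hv) hv
  -- a vector on the coordinate 0
  obtain ⟨x, y, hxy, h0⟩ : ∃ x y : F4, (x ≠ 0 ∨ y ≠ 0) ∧ W (![x, 0, 0], ![y, 0, 0]) := by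
    by_contra hcon
    push Not at hcon
    apply hne
    have h1 : ∀ u, W u → u.1 0 = 0 ∧ u.2 0 = 0 := by
      intro u hu
      by_contra h2
      rw [not_and_or] at h2
      apply hcon _ _ h2
      rw [← P0_eq]
      exact hP u hu
    have h2 := h1 v hv
    have h3 := h1 _ (hS v hv)
    have h4 := h1 _ (hS _ (hS v hv))
    refine Prod.ext (funext fun k => ?_) (funext fun k => ?_)
    · fin_cases k
      · exact h2.1
      · exact h4.1
      · exact h3.1
    · fin_cases k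
      · exact h2.2
      · exact h4.2
      · exact h3.2
  -- `(0, e₀)`
  have h1 : W (E2 1) := by
    by_cases hx : x = 0
    · subst hx
      have hy : y ≠ 0 := hxy.resolve_left (fun h => h rfl)
      have h2 := hsc y⁻¹ _ h0
      have h3 : scm y⁻¹ ((![0, 0, 0], ![y, 0, 0]) : V6) = E2 1 := by
        refine Prod.ext (funext fun k => ?_) (funext fun k => ?_)
        · fin_cases k <;> exact mul_zero _
        · fin_cases k
          · exact inv_mul_cancel₀ hy
          · exact mul_zero _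
          · exact mul_zero _
      rwa [h3] at h2
    · have h2 := hP _ (hS _ (hNC _ h0))
      rw [P0_eq] at h2
      have h3 := hsc (.w * x)⁻¹ _ h2
      have hwx : (.w * x : F4) ≠ 0 := mul_ne_zero (by decide) hx
      have h4 : scm (.w * x)⁻¹ ((![(MSh ((0 : F43), C1 ![x, 0, 0])).1 0, 0, 0],
          ![(MSh ((0 : F43), C1 ![x, 0, 0])).2 0, 0, 0]) : V6) = E2 1 := by
        refine Prod.ext (funext fun k => ?_) (funext fun k => ?_)
        · fin_cases k <;> exact mul_zero _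
        · fin_cases k
          · show (.w * x)⁻¹ * (.w * x + 0) = 1
            rw [add_zero]
            exact inv_mul_cancel₀ hwx
          · exact mul_zero _
          · exact mul_zero _
      exact h4 ▸ h3
  have h2 : W (E1 1) := by
    have h3 := hNB _ h1
    have h4 : ((B01 (E2 1).2, 0) : V6) = E1 1 := by
      refine Prod.ext (funext fun k => ?_) rfl
      fin_cases k <;> rfl
    rwa [h4] at h3
  have h3 : ∀ x, W (E1 x) := fun x => by
    have := hsc x _ h2
    rwa [scm_E1, mul_one] at this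
  have h4 : ∀ x, W (E2 x) := fun x => by
    have := hsc x _ h1
    rwa [scm_E2, mul_one] at this
  intro u
  rw [sum_eq u]
  exact hadd _ _ (hadd _ _ (hadd _ _ (h3 _) (hS _ (h3 _))) (hS _ (hS _ (h3 _))))
    (hadd _ _ (hadd _ _ (h4 _) (hS _ (h4 _))) (hS _ (hS _ (h4 _))))

/-- **Only scalars commute.** -/
theorem scalar_of_comm (T : V6 → V6) (hadd : ∀ u v, T (u + v) = T u + T v)
    (hsc : ∀ γ v, T (scm γ v) = scm γ (T v)) (hD : ∀ v, T (MDg v) = MDg (T v))
    (hS : ∀ v, T (MSh v) = MSh (T v)) (hB : ∀ v, T (MB01 v) = MB01 (T v))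
    (hC : ∀ v, T (MC1 v) = MC1 (T v)) : ∃ γ : F4, ∀ v, T v = scm γ v := by
  have hP : ∀ v, T (P0 v) = P0 (T v) := fun v => by
    unfold P0
    rw [hadd, hadd, hD, hD, hD]
  have hNB : ∀ v, T (B01 v.2, 0) = (B01 (T v).2, 0) := fun v => by
    rw [← NB_eq, ← NB_eq, hadd, hB]
  have hNC : ∀ v, T (0, C1 v.1) = (0, C1 (T v).1) := fun v => by
    rw [← NC_eq, ← NC_eq, hadd, hC]
  -- `T (0, e₀) = (0, μ e₀)`
  have h1 : T (E2 1) = E2 ((T (E2 1)).2 0) := by
    have h2 : P0 (E2 1) = E2 1 := by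
      rw [P0_eq]
      refine Prod.ext (funext fun k => ?_) rfl
      fin_cases k <;> rfl
    have h3 : T (E2 1) = (![(T (E2 1)).1 0, 0, 0], ![(T (E2 1)).2 0, 0, 0]) := by
      rw [← P0_eq, ← hP, h2]
    have h4 : (T (E2 1)).1 0 = 0 := by
      -- `(0, e₀)` is the image under `N_C` of `(.., 0)`
      have h5 : E2 1 = P0 ((0, C1 (scm .w (MSh (E1 1))).1) : V6) := by
        rw [P0_eq]
        refine Prod.ext (funext fun k => ?_) (funext fun k => ?_)
        · fin_cases k <;> rfl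
        · fin_cases k
          · show (1 : F4) = .v * (.w * 1) + .v * (.w * 0)
            decide
          · rfl
          · rfl
      rw [h5, hP, hNC, P0_eq]
      rfl
    rw [h4] at h3
    refine h3.trans ?_
    refine Prod.ext (funext fun k => ?_) rfl
    fin_cases k <;> rfl
  set μ := (T (E2 1)).2 0 with hμ
  have h2 : T (E1 1) = E1 μ := by
    have h3 := hNB (E2 1)
    rw [h1] at h3
    have h4 : ((B01 (E2 1).2, 0) : V6) = E1 1 := by
      refine Prod.ext (funext fun k => ?_) rfl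
      fin_cases k <;> rfl
    have h5 : ((B01 (E2 μ).2, 0) : V6) = E1 μ := by
      refine Prod.ext (funext fun k => ?_) rfl
      fin_cases k <;> rfl
    rw [h4, h5] at h3
    exact h3
  have h3 : ∀ x, T (E1 x) = E1 (μ * x) := fun x => by
    have h4 := hsc x (E1 1)
    rw [scm_E1, mul_one, h2, scm_E1, mul_comm] at h4
    exact h4
  have h4 : ∀ x, T (E2 x) = E2 (μ * x) := fun x => by
    have h5 := hsc x (E2 1)
    rw [scm_E2, mul_one, h1, scm_E2, mul_comm] at h5
    exact h5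
  refine ⟨μ, fun v => ?_⟩
  rw [sum_eq v]
  simp only [hadd, hS, h3, h4, scm_add', scm_MSh', scm_E1, scm_E2]

/-! ### The group -/

variable {K : Type*} [Group K] {C : Cent K} (D : CentCoords C)

theorem idx_none : SporadicA.GolayBase.idx none = 23 := by decide +kernel

include D in
theorem exists_mem {p : M24} {T : ℕ} (hT : CocodeMask.IsTab p T) (hp : (p : Equiv.Perm GolayPt) ∈ M22d)
    (h0 : SporadicA.GolayPerm.papp T 23 = 23) {M : V6 → V6} (h : Lin C D.co (p : Equiv.Perm GolayPt) M) :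
    ∃ c ∈ MM C, ∀ q ∈ C.Q, D.co (c * q * c⁻¹) = M (D.co q) := by
  obtain ⟨c, hc, h1⟩ := exists_lift_one D hp h
  refine ⟨c, ⟨c.2, ?_⟩, h1⟩
  show C.P c none = none
  rw [hc]
  apply apply_eq_of_tab hT
  rw [idx_none]
  exact h0

include D in
/-- **`MM` is irreducible on `Q/⟨z⟩`.** -/
theorem irr {N : Subgroup K} (hNQ : N ≤ C.Q) (hN : ∀ c ∈ MM C, ∀ n ∈ N, c * n * c⁻¹ ∈ N) :
    (∀ n ∈ N, n = 1 ∨ n = C.z) ∨ N = C.Q := by
  by_cases hall : ∀ n ∈ N, D.co n = 0
  · left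
    exact fun n hn => D.co_ker n (hNQ hn) (hall n hn)
  · right
    push Not at hall
    obtain ⟨n₀, hn₀, hne⟩ := hall
    let W : V6 → Prop := fun v => ∃ n ∈ N, D.co n = v
    have hlin : ∀ {p : M24} {T : ℕ} (_ : CocodeMask.IsTab p T) (_ : (p : Equiv.Perm GolayPt) ∈ M22d)
        (_ : SporadicA.GolayPerm.papp T 23 = 23) {M : V6 → V6} (_ : Lin C D.co (p : Equiv.Perm GolayPt) M),
        ∀ v, W v → W (M v) := by
      intro p T hT hp h0 M h v hv
      obtain ⟨n, hn, rfl⟩ := hv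
      obtain ⟨c, hc, h1⟩ := exists_mem D hT hp h0 h
      exact ⟨_, hN c hc n hn, h1 n (hNQ hn)⟩
    have hW : ∀ u, W u := by
      refine all_of_closed W ?_ ?_ (hlin tab_s s_mem (by decide +kernel) (D.lin_s _ tab_s))
        (hlin tab_s' s'_mem (by decide +kernel) (D.lin_s' _ tab_s'))
        (hlin tab_b01 b01_mem (by decide +kernel) (D.lin_b01 _ tab_b01))
        (hlin tab_c1 c1_mem (by decide +kernel) (D.lin_c1 _ tab_c1)) ⟨n₀, hn₀, rfl⟩ hne
      · rintro _ _ ⟨a, ha, rfl⟩ ⟨b, hb, rfl⟩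
        exact ⟨a * b, N.mul_mem ha hb, D.co_mul _ (hNQ ha) _ (hNQ hb)⟩
      · rintro γ _ ⟨n, hn, rfl⟩
        by_cases hγ : γ = 0
        · subst hγ
          refine ⟨1, N.one_mem, ?_⟩
          rw [co_one D]
          exact Prod.ext (funext fun k => (zero_mul _).symm) (funext fun k => (zero_mul _).symm)
        · obtain ⟨i, hi⟩ := exists_pow (K := D) hγ
          refine ⟨(r C : K) ^ i * n * ((r C : K) ^ i)⁻¹, hN _ ((MM C).pow_mem (rho_mem_MM C) i) n hn, ?_⟩
          rw [co_rho_pow D i (hNQ hn), hi]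
    -- `z ∈ N`
    obtain ⟨a, ha, b, hb, hab⟩ : ∃ a ∈ C.Q, ∃ b ∈ C.Q, a * b = C.z * (b * a) := by
      by_contra hcon
      push Not at hcon
      apply hne
      have h1 : n₀ = 1 ∨ n₀ = C.z := C.Q_cent n₀ fun q hq => by
        rcases C.Q_comm n₀ (hNQ hn₀) q hq with h | h
        · exact h
        · exact absurd h (hcon n₀ (hNQ hn₀) q hq)
      rcases h1 with h | h
      · rw [h]; exact co_one D
      · rw [h]; exact D.co_z
    obtain ⟨n, hn, h1⟩ := hW (D.co a)
    have hza : C.z * a = a * C.z := (comm_z (Q_le_MM C ha)).symm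
    have hzb : C.z * b = b * C.z := (comm_z (Q_le_MM C hb)).symm
    have hnb : n * b = C.z * (b * n) := by
      rcases (co_eq_iff D (hNQ hn) ha).1 h1 with h | h
      · rw [h]; exact hab
      · rw [h, mul_assoc, hab, ← mul_assoc b, ← hzb, mul_assoc C.z b a]
    have hzN : C.z ∈ N := by
      have h2 := N.mul_mem hn (hN b (Q_le_MM C hb) n⁻¹ (N.inv_mem hn))
      have h3 : n * (b * n⁻¹ * b⁻¹) = n * b * n⁻¹ * b⁻¹ := by group
      rw [h3, hnb] at h2
      have h4 : C.z * (b * n) * n⁻¹ * b⁻¹ = C.z := by group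
      rwa [h4] at h2
    apply le_antisymm hNQ
    intro q hq
    obtain ⟨n, hn, h1⟩ := hW (D.co q)
    rcases (co_eq_iff D hq (hNQ hn)).1 h1.symm with h | h
    · rw [h]; exact hn
    · rw [h]; exact N.mul_mem hzN hn

/-- **The endomorphisms of `Q/⟨z⟩` commuting with `MM` are the powers of `ρ`.** -/
theorem exists_rho_pow {β : K → K} (hQ : ∀ q ∈ C.Q, β q ∈ C.Q)
    (hadd : ∀ a ∈ C.Q, ∀ b ∈ C.Q, D.co (β (a * b)) = D.co (β a) + D.co (β b))
    (hz : D.co (β C.z) = 0)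
    (hne : ∃ q ∈ C.Q, D.co (β q) ≠ 0)
    (hcomm : ∀ c ∈ MM C, ∀ q ∈ C.Q, D.co (β (c * q * c⁻¹)) = D.co (c * β q * c⁻¹)) :
    ∃ i : ℕ, ∀ q ∈ C.Q, D.co (β q) = D.co (C.ρ ^ i * q * (C.ρ ^ i)⁻¹) := by
  choose f hf1 hf2 using D.co_surj
  have hwd : ∀ a ∈ C.Q, ∀ b ∈ C.Q, D.co a = D.co b → D.co (β a) = D.co (β b) := by
    intro a ha b hb h
    rcases (co_eq_iff D ha hb).1 h with h1 | h1
    · rw [h1]
    · rw [h1, hadd _ C.z_mem_Q _ hb, hz, zero_add]
  let T : V6 → V6 := fun v => D.co (β (f v))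
  have hT : ∀ q ∈ C.Q, T (D.co q) = D.co (β q) := fun q hq => hwd _ (hf1 _) _ hq (hf2 _)
  have hlin : ∀ {p : M24} {T' : ℕ} (_ : CocodeMask.IsTab p T') (_ : (p : Equiv.Perm GolayPt) ∈ M22d)
      (_ : SporadicA.GolayPerm.papp T' 23 = 23) {M : V6 → V6} (_ : Lin C D.co (p : Equiv.Perm GolayPt) M),
      ∀ v, T (M v) = M (T v) := by
    intro p T' hT' hp h0 M h v
    obtain ⟨c, hc, h1⟩ := exists_mem D hT' hp h0 h
    obtain ⟨q, hq, rfl⟩ := D.co_surj v
    have h2 : c * q * c⁻¹ ∈ C.Q := C.Q_conj c (comm_z hc) q hq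
    rw [hT q hq, ← h1 q hq, hT _ h2, hcomm c hc q hq, h1 _ (hQ q hq)]
  have hTadd : ∀ u v, T (u + v) = T u + T v := by
    intro u v
    obtain ⟨a, ha, rfl⟩ := D.co_surj u
    obtain ⟨b, hb, rfl⟩ := D.co_surj v
    rw [← D.co_mul a ha b hb, hT _ (C.Q.mul_mem ha hb), hT a ha, hT b hb, hadd a ha b hb]
  have hT0 : T 0 = 0 := by
    have h1 := hTadd 0 0
    rw [add_zero] at h1
    exact left_eq_add.1 h1
  have hTsc : ∀ γ v, T (scm γ v) = scm γ (T v) := by
    intro γ v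
    have hs0 : ∀ u : V6, scm 0 u = 0 := fun u =>
      Prod.ext (funext fun k => zero_mul _) (funext fun k => zero_mul _)
    by_cases hγ : γ = 0
    · subst hγ
      rw [hs0, hs0, hT0]
    · obtain ⟨i, hi⟩ := exists_pow (K := D) hγ
      obtain ⟨q, hq, rfl⟩ := D.co_surj v
      have hm : (r C : K) ^ i ∈ MM C := (MM C).pow_mem (rho_mem_MM C) i
      have h2 : (r C : K) ^ i * q * ((r C : K) ^ i)⁻¹ ∈ C.Q := C.Q_conj _ (comm_z hm) q hq
      rw [← hi, ← co_rho_pow D i hq, hT _ h2, hT q hq, hcomm _ hm q hq, co_rho_pow D i (hQ q hq)]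
  obtain ⟨γ, hγ⟩ := scalar_of_comm T hTadd hTsc
    (hlin tab_s s_mem (by decide +kernel) (D.lin_s _ tab_s))
    (hlin tab_s' s'_mem (by decide +kernel) (D.lin_s' _ tab_s'))
    (hlin tab_b01 b01_mem (by decide +kernel) (D.lin_b01 _ tab_b01))
    (hlin tab_c1 c1_mem (by decide +kernel) (D.lin_c1 _ tab_c1))
  have hγ0 : γ ≠ 0 := by
    rintro rfl
    obtain ⟨q, hq, h1⟩ := hne
    apply h1
    rw [← hT q hq, hγ]
    exact Prod.ext (funext fun k => zero_mul _) (funext fun k => zero_mul _)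
  obtain ⟨i, hi⟩ := exists_pow (K := D) hγ0
  refine ⟨i, fun q hq => ?_⟩
  have h1 := co_rho_pow D i hq
  have h2 : (r C : K) = C.ρ := rfl
  rw [h2] at h1
  rw [← hT q hq, hγ, h1, hi]

end Cfsg.Agent.KFacts.J4.Irr

end

-- merged: Cfsg.Agent.KFacts.J4.AutP
section

/-!
# The fourth Janko group: the automorphisms of `P = 2^{1+12}.3.M22` are induced by `C_K(z)`
-/

set_option autoImplicit false

namespace Cfsg.Agent.KFacts.J4.AutP

open Cfsg Cfsg.Agent.J4Type Cfsg.Agent.KFacts.J4.Base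
open SporadicA.FieldFour VCoord CentCoords PreHexLin PreHexA
open Cfsg.Agent.SporadicA.MathieuRecog (mem_M22_iff card_M22 simple_M22)
open scoped commutatorElement

variable {K : Type*} [Group K]

/-! ### The homomorphism onto `M22` -/

/-- the homomorphism of `MM` onto `M22` -/
noncomputable def pi (C : Cent K) : MM C →* Cfsg.Spor.M22 where
  toFun x := ⟨C.P ⟨x, MM_le C x.2⟩, (Aut22.mem_M22_iff_D22 _).2 ⟨PreHexA.P_mem _, x.2.2⟩⟩
  map_one' := Subtype.ext (map_one C.P)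
  map_mul' x y := Subtype.ext (map_mul C.P ⟨x, MM_le C x.2⟩ ⟨y, MM_le C y.2⟩)

theorem pi_coe (C : Cent K) (x : MM C) : (pi C x : Equiv.Perm GolayPt) = C.P ⟨x, MM_le C x.2⟩ := rfl

theorem pi_surjective (C : Cent K) : Function.Surjective (pi C) := by
  intro m
  obtain ⟨h1, h2⟩ := (Aut22.mem_M22_iff_D22 _).1 m.2
  obtain ⟨c, hc⟩ := exists_lift (H := C) h1
  have h3 : C.P c none = none := by rw [hc]; exact h2
  exact ⟨⟨c, c.2, h3⟩, Subtype.ext hc⟩

theorem pi_eq_one {C : Cent K} (x : MM C) : pi C x = 1 ↔ ∃ q ∈ C.Q, ∃ i : ℕ, (x : K) = q * C.ρ ^ i := by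
  rw [← C.P_ker ⟨x, MM_le C x.2⟩]
  constructor
  · intro h; exact congrArg Subtype.val h
  · intro h; exact Subtype.ext h

theorem rho_cube (C : Cent K) : C.ρ ^ 3 = 1 := by
  have := pow_orderOf_eq_one C.ρ
  rwa [C.ρ_order] at this

/-- a power of `ρ` in `Q` is trivial -/
theorem rho_pow_eq_one {C : Cent K} {i : ℕ} (h : C.ρ ^ i ∈ C.Q) : C.ρ ^ i = 1 := by
  have h1 : C.ρ * C.ρ ^ i = C.ρ ^ i * C.ρ := by rw [← pow_succ, ← pow_succ']
  rcases C.ρ_fix _ h h1 with h2 | h2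
  · exact h2
  · exfalso
    have h3 : (C.ρ ^ i) ^ 3 = 1 := by rw [← pow_mul, mul_comm, pow_mul, rho_cube, one_pow]
    rw [h2, pow_succ, pow_two, PreHexA.zz C, one_mul] at h3
    have := C.z_order
    rw [h3, orderOf_one] at this
    exact absurd this (by norm_num)

theorem Q_pow_four {C : Cent K} {q : K} (hq : q ∈ C.Q) : q ^ 4 = 1 := by
  have h7 : q ^ 4 = (q * q) * (q * q) := by
    rw [show (4 : ℕ) = 1 + 1 + 1 + 1 by norm_num, pow_add, pow_add, pow_add, pow_one]; group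
  rw [h7]
  rcases C.Q_sq q hq with h8 | h8
  · rw [h8, one_mul]
  · rw [h8]; exact zz C

/-- `(q ρ^i)^n ∈ Q ρ^(i n)` -/
theorem pow_eq {C : Cent K} {q : K} (hq : q ∈ C.Q) (i n : ℕ) :
    ∃ q' ∈ C.Q, (q * C.ρ ^ i) ^ n = q' * (C.ρ ^ i) ^ n := by
  induction n with
  | zero => exact ⟨1, C.Q.one_mem, by rw [pow_zero, pow_zero, one_mul]⟩
  | succ n ih =>
    obtain ⟨q', hq', h⟩ := ih
    have hm : (C.ρ ^ i) ^ n * C.z = C.z * (C.ρ ^ i) ^ n :=
      comm_z ((MM C).pow_mem ((MM C).pow_mem (rho_mem_MM C) i) n)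
    refine ⟨q' * ((C.ρ ^ i) ^ n * q * ((C.ρ ^ i) ^ n)⁻¹), C.Q.mul_mem hq' (C.Q_conj _ hm q hq), ?_⟩
    rw [pow_succ, h, pow_succ]
    group

/-- a 2-element of `N = Q⟨ρ⟩` lies in `Q` -/
theorem mem_Q_of_two {C : Cent K} {q : K} (hq : q ∈ C.Q) {i k : ℕ} (h : (q * C.ρ ^ i) ^ 2 ^ k = 1) :
    C.ρ ^ i = 1 := by
  obtain ⟨q', hq', h1⟩ := pow_eq hq i (2 ^ k)
  rw [h] at h1
  have h2 : (C.ρ ^ i) ^ 2 ^ k = q'⁻¹ := eq_inv_of_mul_eq_one_right h1.symm
  have h3 : (C.ρ ^ (i * 2 ^ k)) ∈ C.Q := by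
    rw [pow_mul, h2]; exact C.Q.inv_mem hq'
  have h4 := rho_pow_eq_one h3
  have h5 : 3 ∣ i * 2 ^ k := by
    have := orderOf_dvd_of_pow_eq_one h4
    rwa [C.ρ_order] at this
  have h6 : 3 ∣ i := (Nat.Coprime.dvd_of_dvd_mul_right (Nat.Coprime.pow_right k (by norm_num)) h5)
  obtain ⟨j, rfl⟩ := h6
  rw [pow_mul, rho_cube, one_pow]

/-- **`Q = O₂(MM)`.** -/
theorem rmax [Finite K] {C : Cent K} {B : Subgroup K} (hB : B ≤ MM C) (hB2 : IsPGroup 2 B)
    (hn : ∀ x ∈ MM C, ∀ b ∈ B, x * b * x⁻¹ ∈ B) : B ≤ C.Q := by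
  have := simple_M22
  let B' : Subgroup (MM C) := B.subgroupOf (MM C)
  have hB'n : B'.Normal := ⟨fun b hb g => hn g g.2 b hb⟩
  have h1 : (B'.map (pi C)).Normal := hB'n.map _ (pi_surjective C)
  have hB'2 : IsPGroup 2 B' := hB2.of_injective (Subgroup.subgroupOfEquivOfLe hB).toMonoidHom
    (Subgroup.subgroupOfEquivOfLe hB).injective
  rcases h1.eq_bot_or_eq_top with h2 | h2
  · intro b hb
    have h3 : pi C ⟨b, hB hb⟩ ∈ B'.map (pi C) := ⟨_, hb, rfl⟩
    rw [h2, Subgroup.mem_bot, pi_eq_one] at h3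
    obtain ⟨q, hq, i, h4⟩ := h3
    have h4' : b = q * C.ρ ^ i := h4
    obtain ⟨k, hk⟩ := hB2 ⟨b, hb⟩
    have h5 : b ^ 2 ^ k = 1 := congrArg Subtype.val hk
    rw [h4'] at h5
    rw [h4', mem_Q_of_two hq h5, mul_one]
    exact hq
  · exfalso
    have h3 : IsPGroup 2 Cfsg.Spor.M22 := by
      have h4 := hB'2.map (pi C)
      rw [h2] at h4
      exact h4.of_equiv Subgroup.topEquiv
    obtain ⟨n, hn⟩ := IsPGroup.iff_card.1 h3
    rw [card_M22] at hn
    have h5 : 11 ∣ 2 ^ n := by rw [← hn]; norm_num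
    have h6 := (Nat.Prime.dvd_of_dvd_pow (by norm_num : Nat.Prime 11) h5)
    exact absurd h6 (by norm_num)

/-- a homomorphism (as a function) of a perfect group with commuting values is trivial -/
theorem hom_trivial {G H : Type*} [Group G] [Group H] (hG : commutator G = ⊤) (a : G → H)
    (hmul : ∀ x y, a (x * y) = a x * a y) (hcomm : ∀ x y, a x * a y = a y * a x) (x : G) : a x = 1 := by
  let f : G →* H := MonoidHom.mk' a hmul
  have h1 : commutator G ≤ f.ker := by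
    rw [commutator_def, Subgroup.commutator_le]
    intro x _ y _
    rw [MonoidHom.mem_ker, map_commutatorElement, commutatorElement_eq_one_iff_mul_comm]
    exact hcomm x y
  rw [hG] at h1
  exact h1 (Subgroup.mem_top x)

theorem commutator_eq_top {G : Type*} [Group G] {H : Subgroup G} (h : ⁅H, H⁆ = H) : commutator H = ⊤ := by
  apply (Subgroup.map_injective H.subtype_injective)
  rw [commutator_def, Subgroup.map_commutator, ← MonoidHom.range_eq_map, Subgroup.range_subtype, h]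

/-! ### The automorphisms of `MM` -/

/-- the conjugation by an element of `C_K(z)` -/
noncomputable def cj (C : Cent K) {d : K} (hd : d * C.z = C.z * d) : MulAut (MM C) where
  toFun x := ⟨d * x * d⁻¹, conj_mem hd x.2⟩
  invFun x := ⟨d⁻¹ * x * d, by
    have h1 : d⁻¹ * C.z = C.z * d⁻¹ := by
      rw [inv_mul_eq_iff_eq_mul, ← mul_assoc, hd, mul_inv_cancel_right]
    have := Base.conj_mem h1 x.2
    rwa [inv_inv] at this⟩
  left_inv x := Subtype.ext (by show d⁻¹ * (d * x * d⁻¹) * d = x; group)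
  right_inv x := Subtype.ext (by show d * (d⁻¹ * x * d) * d⁻¹ = x; group)
  map_mul' x y := Subtype.ext (by show d * (x * y) * d⁻¹ = (d * x * d⁻¹) * (d * y * d⁻¹); group)

theorem cj_coe {C : Cent K} {d : K} (hd : d * C.z = C.z * d) (x : MM C) :
    (cj C hd x : K) = d * x * d⁻¹ := rfl

theorem cj_inv_mul_coe {C : Cent K} {d : K} (hd : d * C.z = C.z * d) (β : MulAut (MM C)) (x : MM C) :
    (((cj C hd)⁻¹ * β) x : K) = d⁻¹ * β x * d := rfl

theorem map_Q [Finite K] {C : Cent K} (β : MulAut (MM C)) {q : MM C} (hq : (q : K) ∈ C.Q) :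
    (β q : K) ∈ C.Q := by
  have h1 : ((C.Q.subgroupOf (MM C)).map β.toMonoidHom).map (MM C).subtype ≤ C.Q := by
    apply rmax
    · rintro _ ⟨x, -, rfl⟩
      exact x.2
    · have h2 : IsPGroup 2 (C.Q.subgroupOf (MM C)) := by
        have h3 : IsPGroup 2 C.Q := IsPGroup.of_card C.Q_card
        exact h3.of_injective (Subgroup.subgroupOfEquivOfLe (Q_le_MM C)).toMonoidHom
          (Subgroup.subgroupOfEquivOfLe (Q_le_MM C)).injective
      exact (h2.map _).map _
    · rintro x hx _ ⟨_, ⟨y, hy, rfl⟩, rfl⟩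
      obtain ⟨w, hw⟩ := β.surjective ⟨x, hx⟩
      refine ⟨β (w * y * w⁻¹), ⟨w * y * w⁻¹, ?_, rfl⟩, ?_⟩
      · show (w : K) * y * (w : K)⁻¹ ∈ C.Q
        exact C.Q_conj w (comm_z w.2) y hy
      · show ((β (w * y * w⁻¹) : MM C) : K) = x * (β y : K) * x⁻¹
        rw [map_mul, map_mul, map_inv, hw]
        rfl
  exact h1 ⟨β q, ⟨q, hq, rfl⟩, rfl⟩

theorem ker_iff {C : Cent K} (x : MM C) :
    pi C x = 1 ↔ ∀ y : MM C, (x : K) * y * (x : K)⁻¹ * (y : K)⁻¹ ∈ C.Q := by
  constructor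
  · rw [pi_eq_one]
    rintro ⟨q, hq, i, h⟩ y
    obtain ⟨q₁, hq₁, h1⟩ := C.P_inner ⟨y, MM_le C y.2⟩ y.2.2
    have h1' : (y : K) * C.ρ * (y : K)⁻¹ = q₁ * C.ρ ^ 1 := by rw [pow_one]; exact h1
    obtain ⟨q', hq', h2⟩ := pow_eq hq₁ 1 i
    rw [← h1', conj_pow, pow_one] at h2
    have h3 : (y : K) * q * (y : K)⁻¹ ∈ C.Q := C.Q_conj y (comm_z y.2) q hq
    have h4 : (x : K) * y * (x : K)⁻¹ * (y : K)⁻¹ = q * (((y : K) * q * (y : K)⁻¹) * q')⁻¹ := by
      have h5 : (y : K) * (q * C.ρ ^ i) * (y : K)⁻¹ = ((y : K) * q * (y : K)⁻¹) * (q' * C.ρ ^ i) := by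
        rw [← h2]; group
      calc (x : K) * y * (x : K)⁻¹ * (y : K)⁻¹ = x * ((y : K) * x * (y : K)⁻¹)⁻¹ := by group
        _ = q * C.ρ ^ i * (((y : K) * q * (y : K)⁻¹) * (q' * C.ρ ^ i))⁻¹ := by rw [h, h5]
        _ = q * (((y : K) * q * (y : K)⁻¹) * q')⁻¹ := by group
    rw [h4]
    exact C.Q.mul_mem hq (C.Q.inv_mem (C.Q.mul_mem h3 hq'))
  · intro h
    apply Subtype.ext
    show (pi C x : Equiv.Perm GolayPt) = 1
    apply Aut22.eq_one_of_centralizes (PreHexA.P_mem _)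
    intro m
    obtain ⟨y, rfl⟩ := pi_surjective C m
    have h1 : pi C (x * y * x⁻¹ * y⁻¹) = 1 := (pi_eq_one _).2 ⟨_, h y, 0, by rw [pow_zero, mul_one]; rfl⟩
    rw [map_mul, map_mul, map_mul, map_inv, map_inv, mul_inv_eq_one] at h1
    exact congrArg Subtype.val h1

theorem ker_map [Finite K] {C : Cent K} (β : MulAut (MM C)) {x : MM C} (hx : pi C x = 1) :
    pi C (β x) = 1 := by
  rw [ker_iff] at hx ⊢
  intro y
  obtain ⟨w, rfl⟩ := β.surjective y
  have h1 := map_Q β (q := x * w * x⁻¹ * w⁻¹) (hx w)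
  rw [map_mul, map_mul, map_mul, map_inv, map_inv] at h1
  exact h1

theorem exists_alpha [Finite K] {C : Cent K} (β : MulAut (MM C)) :
    ∃ α : Cfsg.Spor.M22 ≃* Cfsg.Spor.M22, ∀ x, α (pi C x) = pi C (β x) := by
  have hs := pi_surjective C
  let f : MM C →* Cfsg.Spor.M22 := (pi C).comp β.toMonoidHom
  have hker : (pi C).ker ≤ f.ker := fun x hx => ker_map β hx
  let a : Cfsg.Spor.M22 →* Cfsg.Spor.M22 := (pi C).liftOfSurjective hs ⟨f, hker⟩
  have ha : ∀ x, a (pi C x) = pi C (β x) := fun x =>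
    MonoidHom.liftOfRightInverse_comp_apply (pi C) (Function.surjInv hs) (Function.rightInverse_surjInv hs)
      ⟨f, hker⟩ x
  have hsurj : Function.Surjective a := by
    intro m
    obtain ⟨y, rfl⟩ := hs m
    obtain ⟨x, rfl⟩ := β.surjective y
    exact ⟨pi C x, ha x⟩
  exact ⟨MulEquiv.ofBijective a ⟨Finite.injective_iff_surjective.2 hsurj, hsurj⟩, ha⟩

/-- step 1: trivial on `M22` -/
theorem step1 [Finite K] {C : Cent K} (β : MulAut (MM C)) :
    ∃ (d : K) (hd : d * C.z = C.z * d), ∀ x, pi C (((cj C hd)⁻¹ * β) x) = pi C x := by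
  obtain ⟨α, hα⟩ := exists_alpha β
  obtain ⟨g, hg, hgα⟩ := Aut22.exists_conj α
  obtain ⟨d, hd⟩ := exists_lift (H := C) (p := g) hg
  refine ⟨d, Subgroup.mem_centralizer_singleton_iff.1 d.2, fun x => Subtype.ext ?_⟩
  have h1 : (α (pi C x) : Equiv.Perm GolayPt) = g * (pi C x : Equiv.Perm GolayPt) * g⁻¹ := hgα _
  rw [hα, pi_coe, pi_coe] at h1
  have h2 : (pi C (((cj C (Subgroup.mem_centralizer_singleton_iff.1 d.2))⁻¹ * β) x) :
      Equiv.Perm GolayPt) = C.P (d⁻¹ * ⟨β x, MM_le C (β x).2⟩ * d) := rfl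
  rw [h2, map_mul, map_mul, map_inv, hd, h1, pi_coe]
  group

/-- step 2: trivial modulo `Q` -/
theorem step2 {C : Cent K} (hp : ⁅MM C, MM C⁆ = MM C) (β : MulAut (MM C))
    (hβ : ∀ x, pi C (β x) = pi C x) (x : MM C) : (x : K)⁻¹ * β x ∈ C.Q := by
  have hn : (C.Q.subgroupOf (MM C)).Normal := ⟨fun q hq g => C.Q_conj g (comm_z g.2) q hq⟩
  let Q' := C.Q.subgroupOf (MM C)
  let a : MM C → MM C ⧸ Q' := fun x => ((x⁻¹ * β x : MM C) : MM C ⧸ Q')
  have hcen : ∀ x y : MM C, a x * (y : MM C ⧸ Q') = (y : MM C ⧸ Q') * a x := by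
    intro x y
    have h1 : pi C (x⁻¹ * β x) = 1 := by rw [map_mul, map_inv, hβ, inv_mul_cancel]
    have h2 := (ker_iff _).1 h1 y
    have h3 : (((x⁻¹ * β x) * y * (x⁻¹ * β x)⁻¹ * y⁻¹ : MM C) : MM C ⧸ Q') = 1 :=
      (QuotientGroup.eq_one_iff _).2 h2
    rw [QuotientGroup.mk_mul, QuotientGroup.mk_inv, mul_inv_eq_one, QuotientGroup.mk_mul,
      QuotientGroup.mk_inv, mul_inv_eq_iff_eq_mul, QuotientGroup.mk_mul] at h3
    exact h3
  have h1 : a x = 1 := by
    apply hom_trivial (commutator_eq_top hp) a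
    · intro x y
      have h2 := hcen x y
      show (((x * y)⁻¹ * β (x * y) : MM C) : MM C ⧸ Q') = a x * a y
      have h3 : ((x * y)⁻¹ * β (x * y) : MM C) = y⁻¹ * (x⁻¹ * β x) * (y * (y⁻¹ * β y)) := by
        rw [map_mul]; group
      rw [h3, QuotientGroup.mk_mul, QuotientGroup.mk_mul, QuotientGroup.mk_mul]
      show (y⁻¹ : MM C) * a x * ((y : MM C ⧸ Q') * a y) = a x * a y
      rw [QuotientGroup.mk_inv]
      calc (y : MM C ⧸ Q')⁻¹ * a x * ((y : MM C ⧸ Q') * a y) =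
          (y : MM C ⧸ Q')⁻¹ * (a x * (y : MM C ⧸ Q')) * a y := by group
        _ = a x * a y := by rw [h2]; group
    · intro x y
      exact hcen x _
  have h2 : x⁻¹ * β x ∈ Q' := (QuotientGroup.eq_one_iff _).1 h1
  exact h2

open Classical in
/-- step 3: trivial modulo `Q` and on `Q/⟨z⟩`, up to a power of `ρ` -/
theorem step3 [Finite K] {C : Cent K} (D : CentCoords C) (β : MulAut (MM C))
    (hβ : ∀ x : MM C, (x : K)⁻¹ * β x ∈ C.Q) :
    ∃ i : ℕ, ∀ q : MM C, (q : K) ∈ C.Q → D.co (β q) = D.co (C.ρ ^ i * q * (C.ρ ^ i)⁻¹) := by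
  let b : K → K := fun x => if h : x ∈ MM C then β ⟨x, h⟩ else x
  have hb : ∀ x (h : x ∈ MM C), b x = β ⟨x, h⟩ := fun x h => dif_pos h
  have hbQ : ∀ q ∈ C.Q, b q ∈ C.Q := fun q hq => by
    rw [hb q (Q_le_MM C hq)]
    exact map_Q β hq
  have hzz : b C.z = C.z := by
    have hc : ∀ y : MM C, (b C.z) * y = y * b C.z := by
      intro y
      obtain ⟨w, rfl⟩ := β.surjective y
      rw [hb _ (z_mem_MM C)]
      have h1 : (⟨C.z, z_mem_MM C⟩ : MM C) * w = w * ⟨C.z, z_mem_MM C⟩ :=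
        Subtype.ext (comm_z w.2).symm
      have h2 := congrArg β h1
      rw [map_mul, map_mul] at h2
      exact congrArg Subtype.val h2
    rcases C.Q_cent (b C.z) (fun q hq => hc ⟨q, Q_le_MM C hq⟩) with h | h
    · exfalso
      rw [hb _ (z_mem_MM C)] at h
      have h1 : β ⟨C.z, z_mem_MM C⟩ = 1 := Subtype.ext h
      have h2 : (⟨C.z, z_mem_MM C⟩ : MM C) = 1 := β.injective (by rw [h1, map_one])
      have h3 : C.z = 1 := congrArg Subtype.val h2
      have := C.z_order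
      rw [h3, orderOf_one] at this
      exact absurd this (by norm_num)
    · exact h
  suffices h : ∃ i : ℕ, ∀ q ∈ C.Q, D.co (b q) = D.co (C.ρ ^ i * q * (C.ρ ^ i)⁻¹) by
    obtain ⟨i, hi⟩ := h
    refine ⟨i, fun q hq => ?_⟩
    have := hi q hq
    rwa [hb _ q.2] at this
  refine Irr.exists_rho_pow D (β := b) hbQ ?_ ?_ ?_ ?_
  · intro x hx y hy
    have h1 : b (x * y) = b x * b y := by
      rw [hb _ (Q_le_MM C hx), hb _ (Q_le_MM C hy), hb _ ((MM C).mul_mem (Q_le_MM C hx) (Q_le_MM C hy)),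
        ← Subgroup.coe_mul, ← map_mul]
      rfl
    rw [h1, D.co_mul _ (hbQ x hx) _ (hbQ y hy)]
  · rw [hzz, D.co_z]
  · -- not everything is mapped to `⟨z⟩`
    by_contra hcon
    push Not at hcon
    have h1 : ∀ q ∈ C.Q, q = 1 ∨ q = C.z := by
      intro q hq
      have h2 := map_Q β.symm (q := ⟨q, Q_le_MM C hq⟩) hq
      have h3 := hcon _ h2
      have h4 : b (β.symm ⟨q, Q_le_MM C hq⟩ : MM C) = q := by
        rw [hb _ (β.symm ⟨q, Q_le_MM C hq⟩).2]
        exact congrArg Subtype.val (β.apply_symm_apply _)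
      rw [h4] at h3
      exact D.co_ker q hq h3
    have h3 : (C.Q : Set K) ⊆ {1, C.z} := fun a ha => h1 a ha
    have h4 := Set.ncard_le_ncard h3 (Set.toFinite _)
    have h5 : (C.Q : Set K).ncard = 2 ^ 13 := C.Q_card
    have h6 := Set.ncard_insert_le (1 : K) {C.z}
    rw [Set.ncard_singleton] at h6
    omega
  · intro c hc q hq
    have hcq : c * q * c⁻¹ ∈ C.Q := C.Q_conj c (comm_z hc) q hq
    have h1 : b (c * q * c⁻¹) = b c * b q * (b c)⁻¹ := by
      rw [hb _ (Q_le_MM C hcq), hb _ (Q_le_MM C hq), hb _ hc, ← Subgroup.coe_mul, ← Subgroup.coe_inv,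
        ← Subgroup.coe_mul, ← map_inv, ← map_mul, ← map_mul]
      rfl
    obtain ⟨x, hx, h2⟩ : ∃ x ∈ C.Q, b c = c * x := by
      refine ⟨c⁻¹ * b c, ?_, by group⟩
      rw [hb _ hc]
      exact hβ ⟨c, hc⟩
    have h3 : b c * b q * (b c)⁻¹ = c * (x * b q * x⁻¹) * c⁻¹ := by rw [h2]; group
    have hbq := hbQ q hq
    have h4 : x * b q * x⁻¹ ∈ C.Q := C.Q.mul_mem (C.Q.mul_mem hx hbq) (C.Q.inv_mem hx)
    rw [h1, h3]
    apply co_conj_congr D ⟨c, MM_le C hc⟩ h4 hbq
    rw [D.co_mul _ (C.Q.mul_mem hx hbq) _ (C.Q.inv_mem hx), D.co_mul _ hx _ hbq, co_inv D hx,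
      add_right_comm, add_self6, zero_add]

/-- in a perfect group with `z` central no subgroup of `C(z)` has index 2 -/
theorem index_ne_two {G : Type*} [Group G] (hG : commutator G = ⊤) {z : G} (hz : ∀ g : G, g * z = z * g)
    (N : Subgroup (Subgroup.centralizer ({z} : Set G))) : N.index ≠ 2 := by
  have htop : Subgroup.centralizer ({z} : Set G) = ⊤ := by
    rw [eq_top_iff]
    intro c _
    exact Subgroup.mem_centralizer_singleton_iff.2 (hz c)
  revert N
  rw [htop]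
  intro N
  have e : (⊤ : Subgroup G) ≃* G := Subgroup.topEquiv
  have h1 : commutator (⊤ : Subgroup G) = ⊤ := by
    have h2 : (commutator (⊤ : Subgroup G)).map e.toMonoidHom = ⊤ := by
      rw [commutator_def, Subgroup.map_commutator]
      have h3 : (⊤ : Subgroup (⊤ : Subgroup G)).map e.toMonoidHom = ⊤ := by
        rw [← MonoidHom.range_eq_map]
        exact MonoidHom.range_eq_top.2 e.surjective
      rw [h3, ← commutator_def, hG]
    rw [eq_top_iff]
    intro c _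
    have h3 : e c ∈ (commutator (⊤ : Subgroup G)).map e.toMonoidHom := by
      rw [h2]; trivial
    obtain ⟨d, hd, hde⟩ := h3
    rwa [← e.injective hde]
  exact LargeSheet.Data.index_ne_two h1 N

/-- **Every automorphism of `MM` is the conjugation by an element of `C_K(z)`.** -/
theorem exists_conj [Finite K] {C : Cent K} (D : CentCoords C) (hp : ⁅MM C, MM C⁆ = MM C)
    (β : MulAut (MM C)) : ∃ c : K, c * C.z = C.z * c ∧ ∀ x : MM C, (β x : K) = c * x * c⁻¹ := by
  obtain ⟨d, hd, h1⟩ := step1 β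
  obtain ⟨i, hi⟩ := step3 D _ (step2 hp _ h1)
  set β₁ := (cj C hd)⁻¹ * β with hβ₁
  have hL := FusionCent.large C
  have hρ : C.ρ ^ i ∈ MM C := (MM C).pow_mem (rho_mem_MM C) i
  have hz : ∀ g : MM C, g * (⟨C.z, z_mem_MM C⟩ : MM C) = ⟨C.z, z_mem_MM C⟩ * g := fun g =>
    Subtype.ext (comm_z g.2)
  have hext : Cfsg.IsExtraspecial 2 (C.Q.subgroupOf (MM C)) :=
    Cfsg.Agent.J2.ExtQuot.isExtraspecial_of_equiv (Subgroup.subgroupOfEquivOfLe (Q_le_MM C)).symm
      (LargeExtra.Nine.ToCent.isExtraspecial_Q hL (by rw [C.Q_card]; norm_num))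
  have hz1 : (⟨C.z, z_mem_MM C⟩ : MM C) ≠ 1 := fun h => hL.z_ne (congrArg Subtype.val h)
  obtain ⟨x, hx, h2⟩ := OutQ.exists_conj_mul (K := MM C) (z := ⟨C.z, z_mem_MM C⟩) hz1
    (Subtype.ext (PreHexA.zz C)) (C.Q.subgroupOf (MM C)) hext C.z_mem_Q (fun q _ => hz q)
    (fun c _ q hq => C.Q_conj c (comm_z c.2) q hq)
    (by
      intro c hc
      rcases C.Q_cent (c : K) (fun q hq => congrArg Subtype.val (hc ⟨q, Q_le_MM C hq⟩ hq)) with h | h
      · exact Or.inl (Subtype.ext h)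
      · exact Or.inr (Subtype.ext h))
    (index_ne_two (commutator_eq_top hp) hz) β₁
    (by
      -- `β₁ z = z`
      have hc : ∀ y : MM C, β₁ ⟨C.z, z_mem_MM C⟩ * y = y * β₁ ⟨C.z, z_mem_MM C⟩ := by
        intro y
        obtain ⟨w, rfl⟩ := β₁.surjective y
        rw [← map_mul, ← map_mul, hz w]
      rcases C.Q_cent (β₁ ⟨C.z, z_mem_MM C⟩ : MM C) (fun q hq =>
        congrArg Subtype.val (hc ⟨q, Q_le_MM C hq⟩)) with h | h
      · exfalso
        apply hz1
        apply β₁.injective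
        rw [map_one]
        exact Subtype.ext h
      · exact Subtype.ext h)
    (c₀ := ⟨C.ρ ^ i, hρ⟩) (hz _)
    (by
      intro q hq
      have h3 := hi q hq
      have h4 : C.ρ ^ i * q * (C.ρ ^ i)⁻¹ ∈ C.Q := C.Q_conj _ (comm_z hρ) q hq
      rcases (co_eq_iff D (map_Q β₁ hq) h4).1 h3 with h5 | h5
      · exact Or.inl (Subtype.ext h5)
      · right
        apply Subtype.ext
        show (β₁ q : K) = C.ρ ^ i * q * (C.ρ ^ i)⁻¹ * C.z
        rw [h5]
        exact (comm_z (Q_le_MM C h4)).symm)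
  refine ⟨d * (C.ρ ^ i * x), ?_, fun c => ?_⟩
  · have h3 : (C.ρ ^ i * (x : K)) * C.z = C.z * (C.ρ ^ i * (x : K)) :=
      comm_z ((MM C).mul_mem hρ x.2)
    rw [mul_assoc, h3, ← mul_assoc, hd, mul_assoc]
  · have h3 := congrArg Subtype.val (h2 c (hz c))
    have h4 : (β₁ c : K) = d⁻¹ * β c * d := cj_inv_mul_coe hd β c
    have h5 : (β c : K) = d * (β₁ c) * d⁻¹ := by rw [h4]; group
    rw [h5, h3]
    show d * (C.ρ ^ i * (x : K) * c * (C.ρ ^ i * (x : K))⁻¹) * d⁻¹ =
      d * (C.ρ ^ i * (x : K)) * c * (d * (C.ρ ^ i * (x : K)))⁻¹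
    group

end Cfsg.Agent.KFacts.J4.AutP

end

-- merged: Cfsg.Agent.KFacts.J4.Easy
section

/-!
# The sheet of type (E) for J4: the easy fields (helper222)

`C : Compl K`, `z = C.z`, `P = FusionCent.M C` (elements `c` of `C(z)` with `P c none = none`), `R = C.Q`.
-/

set_option autoImplicit false

open scoped Pointwise commutatorElement

namespace Cfsg.Agent.KFacts.J4.Easy

open Cfsg Cfsg.Agent.J4Type Cfsg.Agent.J4Type.FusionCent Cfsg.Agent.OddHalf

variable {K : Type*} [Group K]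

section Cent

variable (C : Cent K)

theorem zz : C.z * C.z = 1 := (large C).z_sq

theorem z1 : C.z ≠ 1 := (large C).z_ne

theorem cen : ∀ x ∈ M C, x * C.z = C.z * x := by
  intro x hx
  obtain ⟨h, -⟩ := (mem_M C).1 hx
  exact (mem_cent C).1 h

theorem Q2 : IsPGroup 2 C.Q := IsPGroup.of_card C.Q_card

theorem RP : C.Q ≤ M C := by
  intro q hq
  refine (mem_M C).2 ⟨C.Q_le hq, ?_⟩
  rw [P_of_mem_Q C ⟨q, C.Q_le hq⟩ hq]
  rfl

theorem Rn : ∀ x ∈ M C, ∀ r ∈ C.Q, x * r * x⁻¹ ∈ C.Q :=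
  fun x hx r hr => C.Q_conj x (cen C x hx) r hr

theorem cR : ∀ x ∈ M C, (∀ r ∈ C.Q, x * r = r * x) → x ∈ C.Q := by
  intro x _ h
  rcases C.Q_cent x h with h | h
  · rw [h]; exact C.Q.one_mem
  · rw [h]; exact C.z_mem_Q

theorem Rna : ∃ a ∈ C.Q, ∃ b ∈ C.Q, a * b ≠ b * a := by
  by_contra hcon
  push Not at hcon
  have h1 : ∀ x : C.Q, (x : K) = 1 ∨ (x : K) = C.z := fun x =>
    C.Q_cent x fun q hq => hcon x x.2 q hq
  have h2 : Nat.card C.Q ≤ Nat.card Bool := by
    classical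
    apply Nat.card_le_card_of_injective (fun x : C.Q => decide ((x : K) = 1))
    intro x y hxy
    have h3 : ((x : K) = 1) ↔ ((y : K) = 1) := by
      have := congrArg (· = true) hxy
      simpa using this
    rcases h1 x with hx | hx
    · exact Subtype.ext (hx.trans (h3.1 hx).symm)
    · rcases h1 y with hy | hy
      · exact Subtype.ext ((h3.2 hy).trans hy.symm)
      · exact Subtype.ext (hx.trans hy.symm)
  rw [C.Q_card, Nat.card_eq_fintype_card, Fintype.card_bool] at h2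
  norm_num at h2

theorem syl [Finite K] : ∃ S : Sylow 2 K, C.z ∈ S ∧ (∀ x ∈ S, x * C.z = C.z * x) ∧
    ∀ y ∈ S, (∀ x ∈ S, x * y = y * x) → y = 1 ∨ y = C.z := by
  have : Fact (Nat.Prime 2) := ⟨Nat.prime_two⟩
  obtain ⟨S, hS⟩ := (Q2 C).exists_le_sylow
  have hZ : ∀ y ∈ S, (∀ x ∈ S, x * y = y * x) → y = 1 ∨ y = C.z := by
    intro y _ hy
    exact C.Q_cent y fun q hq => (hy q (hS hq)).symm
  have hzS : C.z ∈ S := hS C.z_mem_Q
  refine ⟨S, hzS, ?_, hZ⟩
  have hnt : Nontrivial S := ⟨⟨⟨C.z, hzS⟩, 1, fun h => z1 C (congrArg Subtype.val h)⟩⟩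
  have := S.isPGroup'.center_nontrivial
  obtain ⟨⟨y, hy⟩, hy1⟩ := exists_ne (1 : Subgroup.center S)
  have hyc : ∀ x ∈ S, x * (y : K) = y * x := by
    intro x hx
    exact congrArg Subtype.val (Subgroup.mem_center_iff.1 hy ⟨x, hx⟩)
  rcases hZ y y.2 hyc with h | h
  · exact absurd (Subtype.ext (Subtype.ext h)) hy1
  · intro x hx
    rw [← h]
    exact hyc x hx

/-- `P c` permutes the two base points -/
theorem P_cases (c : Subgroup.centralizer ({C.z} : Set K)) :
    (C.P c none = none ∧ C.P c (some 0) = some 0) ∨ (C.P c none = some 0 ∧ C.P c (some 0) = none) :=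
  (mem_M22d (P_mem C c)).2

theorem comm_mem {a b : K} (ha : a ∈ Subgroup.centralizer ({C.z} : Set K))
    (hb : b ∈ Subgroup.centralizer ({C.z} : Set K)) : ⁅a, b⁆ ∈ M C := by
  let a' : Subgroup.centralizer ({C.z} : Set K) := ⟨a, ha⟩
  let b' : Subgroup.centralizer ({C.z} : Set K) := ⟨b, hb⟩
  have hinv : ∀ c : Subgroup.centralizer ({C.z} : Set K), ∀ p q : GolayPt, C.P c p = q →
      C.P c⁻¹ q = p := by
    intro c p q h
    rw [map_inv, ← h]
    exact Equiv.symm_apply_apply _ _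
  refine (mem_M C).2 ⟨(⁅a', b'⁆ : Subgroup.centralizer ({C.z} : Set K)).2, ?_⟩
  change C.P (a' * b' * a'⁻¹ * b'⁻¹) none = none
  rw [map_mul, map_mul, map_mul, Equiv.Perm.mul_apply, Equiv.Perm.mul_apply, Equiv.Perm.mul_apply]
  rcases P_cases C a' with ⟨h1, h2⟩ | ⟨h1, h2⟩ <;> rcases P_cases C b' with ⟨h3, h4⟩ | ⟨h3, h4⟩
  · rw [hinv b' _ _ h3, hinv a' _ _ h1, h3, h1]
  · rw [hinv b' _ _ h4, hinv a' _ _ h2, h4, h1]
  · rw [hinv b' _ _ h3, hinv a' _ _ h2, h4, h2]
  · rw [hinv b' _ _ h4, hinv a' _ _ h1, h3, h2]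

theorem der : ∃ m, TR.dser m (Subgroup.centralizer ({C.z} : Set K)) ≤ M C := by
  refine ⟨1, ?_⟩
  rw [TR.dser_succ, TR.dser_zero, Subgroup.commutator_le]
  exact fun a ha b hb => comm_mem C ha hb

end Cent

/-! ### The conjugating element -/

section WithCompl

variable (C : J4Type.Compl K)

theorem E_le_M : C.E hex0 ≤ M C.toCent := by
  intro a ha
  have h0 : IsHex hex0 := HexMax.hex0_isHex
  have hz : a ∈ Subgroup.centralizer ({C.z} : Set K) := by
    rw [Subgroup.mem_centralizer_singleton_iff]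
    exact (C.E_elem _ h0).2 a ha _ (C.z_mem_E _ h0)
  refine (mem_M C.toCent).2 ⟨hz, ?_⟩
  exact ((C.E_map hex0 h0 (C.P ⟨a, hz⟩)).1 ⟨⟨a, hz⟩, ha, rfl⟩).2 none (by decide +kernel)

/-- the element `k = φ(X)` -/
theorem exists_k : ∃ k : K, k * C.z * k⁻¹ ∈ M C.toCent ∧ k * C.z * k⁻¹ ∉ C.Q ∧
    k⁻¹ * C.z * k ∈ M C.toCent := by
  let X : M24 := ⟨Cfsg.Agent.J4.M24Hom.X, Cfsg.Agent.J4.M24Hom.X_mem⟩
  have hX : (X : Equiv.Perm GolayPt) * X = 1 := by
    apply Equiv.ext
    decide +kernel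
  have hXi : C.φ X * C.φ X = 1 := by
    rw [← map_mul, ← map_one C.φ]
    exact congrArg C.φ (Subtype.ext hX)
  have hXi' : (C.φ X)⁻¹ = C.φ X := inv_eq_of_mul_eq_one_left hXi
  have h1 : C.φ X * C.z * (C.φ X)⁻¹ = C.ε ((X : Equiv.Perm GolayPt) • tet 0) := by
    rw [← C.ε_tet 0, FinalGen.Compl.conj_ε C X (by rw [FinalGen.tet_card]; decide)]
  have hmem : C.φ X * C.z * (C.φ X)⁻¹ ∈ M C.toCent := by
    rw [h1]
    apply E_le_M
    apply C.ε_mem
    rw [Finset.card_smul_finset, FinalGen.tet_card]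
    decide
  refine ⟨C.φ X, hmem, ?_, ?_⟩
  · rw [h1, C.A_iff _ (by rw [Finset.card_smul_finset, FinalGen.tet_card]; decide)]
    rintro (h | h)
    · exact absurd h (by decide +kernel)
    · exact absurd h (by decide +kernel)
  · rw [hXi'] at hmem ⊢
    exact hmem

end WithCompl

end Cfsg.Agent.KFacts.J4.Easy

end

-- merged: Cfsg.Agent.KFacts.J4.Gen
section

/-!
# J4: two conjugates of `C_G(z)^∞` (helper615, for helper869's sheet of J4)

`C : Compl G`; `MM` is the subgroup of index 2 of `C_G(z)` (`P c none = none`).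
For the explicit element `h` of `M24`, `z' = φ(h) z φ(h)⁻¹`:

* `C1` : an element commuting with `MM ∩ MM^φ(h)` lies in `{1, z, z', z z'}`;
* `C2` : a subgroup containing `MM` and `φ(h) MM φ(h)⁻¹` contains `φ(M24)` and `C_G(z)`.
-/

set_option autoImplicit false

open scoped Pointwise

namespace Cfsg.Agent.KFacts.J4.Gen

open Cfsg Cfsg.Agent.SporadicA.GolayBase Cfsg.Agent.SporadicA.GolayPerm
open Cfsg.Agent.J4Type Cfsg.Agent.J4Type.TauM24 Cfsg.Agent.J4Type.TauMask
open Cfsg.Agent.J4Type.SplitData (zm)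
open Cfsg.Agent.J4Type.CocodeMask (IsTab isTab_one isTab_mk mk act actT act_eq ev ev_act)
open Cfsg.Agent.J4Type.FrameDefs (c)
open Cfsg.Agent.J4.M24Hom (XM YM)

/-! ### explicit elements of `M24` -/

def Ph : ℕ := 695347535913303985372650158084435411
def Pa : ℕ := 520556567710332222812850955335574091
def Pb : ℕ := 153500299761813447968845081606309317
def Py : ℕ := 55394568543912416201408027919834176
def Pg1 : ℕ := 984162656288205181803220248973149186
def Pg2 : ℕ := 45620866158673921783989623946730560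
def Pk1 : ℕ := 984532935372671352453315941286346817
def Pk2 : ℕ := 48216896235503772413490191994685463
def Pm : ℕ := 965985432935273840898870684669188448
def PX : ℕ := 521366414552910786153029034648536137
def PY : ℕ := 525297441932761576910024532220217649

noncomputable def eh : M24 := mk Ph (by decide +kernel)
noncomputable def ea : M24 := mk Pa (by decide +kernel)
noncomputable def eb : M24 := mk Pb (by decide +kernel)
noncomputable def ey : M24 := mk Py (by decide +kernel)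
noncomputable def eg1 : M24 := mk Pg1 (by decide +kernel)
noncomputable def eg2 : M24 := mk Pg2 (by decide +kernel)
noncomputable def ek1 : M24 := mk Pk1 (by decide +kernel)
noncomputable def ek2 : M24 := mk Pk2 (by decide +kernel)
noncomputable def em : M24 := mk Pm (by decide +kernel)

theorem isPerm_Pm : isPerm Pm = true := by decide +kernel

theorem tab_h : IsTab eh Ph := isTab_mk Ph _
theorem tab_a : IsTab ea Pa := isTab_mk Pa _
theorem tab_b : IsTab eb Pb := isTab_mk Pb _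
theorem tab_y : IsTab ey Py := isTab_mk Py _
theorem tab_g1 : IsTab eg1 Pg1 := isTab_mk Pg1 _
theorem tab_g2 : IsTab eg2 Pg2 := isTab_mk Pg2 _
theorem tab_k1 : IsTab ek1 Pk1 := isTab_mk Pk1 _
theorem tab_k2 : IsTab ek2 Pk2 := isTab_mk Pk2 _

theorem tabX : IsTab XM PX := by
  show ∀ p : GolayPt, idx (Cfsg.Agent.J4.M24Hom.X p) = papp PX (idx p)
  decide +kernel

theorem tabY : IsTab YM PY := by
  show ∀ p : GolayPt, idx (Cfsg.Agent.J4.M24Hom.Y p) = papp PY (idx p)
  decide +kernel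

theorem eq_of_pcomp {g g' k k' : M24} {P P' Q Q' : ℕ} (hg : IsTab g P) (hk : IsTab k Q)
    (hg' : IsTab g' P') (hk' : IsTab k' Q')
    (h : CocodeMask.pcomp P Q = CocodeMask.pcomp P' Q') : g * k = g' * k' := by
  have h1 := hg.mul hk
  rw [h] at h1
  exact h1.eq (hg'.mul hk')

theorem pow_three {g : M24} {P : ℕ} (hg : IsTab g P)
    (h : CocodeMask.pcomp (CocodeMask.pcomp P P) P = CocodeMask.pone) : g ^ 3 = 1 := by
  have h1 := (hg.mul hg).mul hg
  rw [h] at h1
  rw [pow_succ, pow_two]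
  exact h1.eq isTab_one

theorem pow_five {g : M24} {P : ℕ} (hg : IsTab g P)
    (h : CocodeMask.pcomp (CocodeMask.pcomp (CocodeMask.pcomp (CocodeMask.pcomp P P) P) P) P =
      CocodeMask.pone) : g ^ 5 = 1 := by
  have h1 := (((hg.mul hg).mul hg).mul hg).mul hg
  rw [h] at h1
  rw [pow_succ, pow_succ, pow_succ, pow_two]
  exact h1.eq isTab_one

theorem X_eq : XM = ea * (eh * eb * eh⁻¹) := by
  have h1 : XM * eh = (ea * eh) * eb :=
    eq_of_pcomp tabX tab_h (tab_a.mul tab_h) tab_b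
      (by decide +kernel)
  rw [← mul_assoc, ← mul_assoc, ← h1, mul_inv_cancel_right]

theorem Y_eq : YM = eh * ey * eh⁻¹ := by
  have h1 : YM * eh = eh * ey :=
    eq_of_pcomp tabY tab_h tab_h tab_y (by decide +kernel)
  rw [← h1, mul_inv_cancel_right]

theorem g1_eq : eh⁻¹ * eg1 * eh = ek1 := by
  have h1 : eg1 * eh = eh * ek1 :=
    eq_of_pcomp tab_g1 tab_h tab_h tab_k1
      (by decide +kernel)
  rw [mul_assoc, h1, inv_mul_cancel_left]

theorem g2_eq : eh⁻¹ * eg2 * eh = ek2 := by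
  have h1 : eg2 * eh = eh * ek2 :=
    eq_of_pcomp tab_g2 tab_h tab_h tab_k2
      (by decide +kernel)
  rw [mul_assoc, h1, inv_mul_cancel_left]

theorem mem_Kz_of {g : M24} {P : ℕ} (hg : IsTab g P) (h : actT P zm = zm) : g ∈ Kz := by
  rw [mem_Kz_iff, act_eq hg]
  exact h

theorem a_mem : ea ∈ Kz := mem_Kz_of tab_a (by decide +kernel)
theorem b_mem : eb ∈ Kz := mem_Kz_of tab_b (by decide +kernel)
theorem y_mem : ey ∈ Kz := mem_Kz_of tab_y (by decide +kernel)
theorem g1_mem : eg1 ∈ Kz := mem_Kz_of tab_g1 (by decide +kernel)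
theorem g2_mem : eg2 ∈ Kz := mem_Kz_of tab_g2 (by decide +kernel)
theorem k1_mem : ek1 ∈ Kz := mem_Kz_of tab_k1 (by decide +kernel)
theorem k2_mem : ek2 ∈ Kz := mem_Kz_of tab_k2 (by decide +kernel)

theorem a_pow : ea ^ 3 = 1 := pow_three tab_a (by decide +kernel)
theorem b_pow : eb ^ 5 = 1 := pow_five tab_b (by decide +kernel)
theorem y_pow : ey ^ 3 = 1 := pow_three tab_y (by decide +kernel)
theorem g1_pow : eg1 ^ 3 = 1 := pow_three tab_g1 (by decide +kernel)
theorem g2_pow : eg2 ^ 3 = 1 := pow_three tab_g2 (by decide +kernel)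
theorem k1_pow : ek1 ^ 3 = 1 := pow_three tab_k1 (by decide +kernel)
theorem k2_pow : ek2 ^ 3 = 1 := pow_three tab_k2 (by decide +kernel)

theorem tab_m : IsTab em Pm := isTab_mk Pm _

theorem act_h : act eh zm = 3758 := by
  rw [act_eq tab_h]
  decide +kernel

theorem fix_check : allR 12 0 (fun m => !(ev m && Nat.beq (actT Pg1 m) m && Nat.beq (actT Pg2 m) m)
    || (Nat.beq m 0 || Nat.beq m 783 || Nat.beq m 3489 || Nat.beq m 3758)) = true := by
  decide +kernel

theorem fix_cases {m : ℕ} (hm : ev m = true) (h1 : act eg1 m = m) (h2 : act eg2 m = m) :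
    m = 0 ∨ m = 783 ∨ m = 3489 ∨ m = 3758 := by
  have hlt : m < 2 ^ 12 := ((CocodeMask.ev_iff m).1 hm).1
  have h3 := allR_zero_spec fix_check m hlt
  rw [act_eq tab_g1] at h1
  rw [act_eq tab_g2] at h2
  simp only [hm, h1, h2, Nat.beq_refl, Bool.and_self, Bool.not_true, Bool.false_or,
    Bool.or_eq_true, Nat.beq_eq] at h3
  tauto

/-! ### the subgroup `MM` -/

variable {G : Type*} [Group G] (C : J4Type.Compl G)

theorem c_zm : (c C.toFrame zm : G) = C.z := by
  rw [← msk_tet 0, c_msk C.toFrame (by rw [TauM24.tet_card]; decide), C.ε_tet]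

theorem ev_zm : ev zm = true := by decide +kernel

/-- the second central involution -/
theorem conj_z : C.φ eh * C.z * (C.φ eh)⁻¹ = c C.toFrame 3758 := by
  rw [← c_zm, φ_c C eh ev_zm, act_h]

theorem phi_comm {g : M24} (hg : g ∈ Kz) : C.φ g ∈ Subgroup.centralizer ({C.z} : Set G) := by
  rw [Subgroup.mem_centralizer_singleton_iff]
  have h1 := φ_c C g ev_zm
  rw [(mem_Kz_iff g).1 hg, c_zm, mul_inv_eq_iff_eq_mul] at h1
  exact h1

theorem base_cases {p : GolayPt} (h : p ∈ base) : p = none ∨ p = some 0 := by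
  simpa [base] using h

/-- an element of odd order of `M22:2` fixes the two base points -/
theorem fix_none {σ : Equiv.Perm GolayPt} (hσ : σ • base = base) {n : ℕ} (hn : Odd n)
    (h : σ ^ n = 1) : σ none = none := by
  by_contra hne
  have hmem : ∀ p ∈ base, σ p ∈ base := by
    intro p hp
    rw [← hσ]
    exact Finset.smul_mem_smul_finset hp
  have h0 : σ none = some 0 := by
    rcases base_cases (hmem none (by simp [base])) with h1 | h1
    · exact absurd h1 hne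
    · exact h1
  have h1 : σ (some 0) = none := by
    rcases base_cases (hmem (some 0) (by simp [base])) with h1 | h1
    · exact h1
    · have h2 : σ (some 0) = σ none := h1.trans h0.symm
      exact absurd (σ.injective h2) (by decide)
  have key : ∀ k : ℕ, (σ ^ (2 * k)) none = none := by
    intro k
    induction k with
    | zero => rfl
    | succ k ih =>
      have e : 2 * (k + 1) = 1 + 1 + 2 * k := by ring
      rw [e, pow_add, Equiv.Perm.mul_apply, ih, pow_add, pow_one, Equiv.Perm.mul_apply, h0, h1]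
  obtain ⟨k, rfl⟩ := hn
  have h2 : (σ ^ (2 * k + 1)) none = none := by rw [h]; rfl
  rw [pow_succ', Equiv.Perm.mul_apply, key] at h2
  exact hne h2

theorem P_base (x : Subgroup.centralizer ({C.z} : Set G)) : C.P x • base = base := by
  have h : C.P x ∈ M22d := by
    rw [← C.P_range]
    exact ⟨x, rfl⟩
  exact h.2

section

variable {MM : Subgroup G} (hMM : ∀ x : G, x ∈ MM ↔
  ∃ hx : x ∈ Subgroup.centralizer ({C.z} : Set G), C.P ⟨x, hx⟩ none = none)

include hMM

theorem phi_mem {g : M24} (hg : g ∈ Kz) {n : ℕ} (hn : Odd n) (h1 : g ^ n = 1) : C.φ g ∈ MM := by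
  rw [hMM]
  refine ⟨phi_comm C hg, fix_none (P_base C _) hn ?_⟩
  rw [← map_pow]
  have h2 : (⟨C.φ g, phi_comm C hg⟩ : Subgroup.centralizer ({C.z} : Set G)) ^ n = 1 := by
    apply Subtype.ext
    show (C.φ g) ^ n = 1
    rw [← map_pow, h1, map_one]
  rw [h2, map_one]

theorem E_le : C.E hex0 ≤ MM := by
  intro a ha
  rw [hMM]
  have hx : a ∈ Subgroup.centralizer ({C.z} : Set G) := by
    rw [Subgroup.mem_centralizer_singleton_iff]
    exact (C.E_elem hex0 HexMax.hex0_isHex).2 _ ha _ (C.z_mem_E hex0 HexMax.hex0_isHex)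
  refine ⟨hx, ?_⟩
  exact ((C.E_map hex0 HexMax.hex0_isHex (C.P ⟨a, hx⟩)).1 ⟨⟨a, hx⟩, ha, rfl⟩).2 none
    (by decide +kernel)

omit hMM in
theorem conj_E {a : G} (ha : a ∈ C.E hex0) (g : M24) : (C.φ g)⁻¹ * a * C.φ g ∈ C.E hex0 := by
  have h1 := (Subgroup.mem_normalizer_iff.1 (C.φ_mem g⁻¹) a).1 ha
  rw [map_inv, inv_inv] at h1
  exact h1

/-- **(C1)** -/
theorem C1 {s : G} (hs : ∀ x ∈ MM, (C.φ eh)⁻¹ * x * C.φ eh ∈ MM → s * x = x * s) :
    s = 1 ∨ s = C.z ∨ s = C.φ eh * C.z * (C.φ eh)⁻¹ ∨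
      s = C.z * (C.φ eh * C.z * (C.φ eh)⁻¹) := by
  have h1 : s ∈ C.E hex0 := by
    apply C.A_cent hex0 HexMax.hex0_isHex
    intro a ha _
    exact hs a (E_le C hMM ha) (E_le C hMM (conj_E C ha eh))
  obtain ⟨m, hm, rfl⟩ := exists_c C.toFrame h1
  have key : ∀ g k : M24, g ∈ Kz → g ^ 3 = 1 → eh⁻¹ * g * eh = k → k ∈ Kz → k ^ 3 = 1 →
      act g m = m := by
    intro g k hg hg3 hgk hk hk3
    have h2 := hs (C.φ g) (phi_mem C hMM hg (by decide) hg3) (by
      rw [← map_inv, ← map_mul, ← map_mul, hgk]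
      exact phi_mem C hMM hk (by decide) hk3)
    have h3 := φ_c C g hm
    rw [← h2, mul_inv_cancel_right] at h3
    exact (c_inj C.toFrame hm (ev_act g hm) h3).symm
  rw [conj_z]
  rcases fix_cases hm (key _ _ g1_mem g1_pow g1_eq k1_mem k1_pow)
    (key _ _ g2_mem g2_pow g2_eq k2_mem k2_pow) with rfl | rfl | rfl | rfl
  · exact Or.inl (c_zero C.toFrame)
  · right; right; right
    have e : zm ^^^ 3758 = 783 := by decide +kernel
    rw [← c_zm, ← c_xor C.toFrame ev_zm (by decide +kernel), e]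
  · right; left
    exact c_zm C
  · right; right; left
    rfl

omit hMM in
theorem z'_ne : C.φ eh * C.z * (C.φ eh)⁻¹ ≠ C.z := by
  rw [conj_z, ← c_zm]
  intro h
  have h1 := c_inj C.toFrame (by decide +kernel) ev_zm h
  exact absurd h1 (by decide +kernel)

theorem z_mem : C.z ∈ MM := E_le C hMM (C.z_mem_E hex0 HexMax.hex0_isHex)

/-- **(C2), first half** -/
theorem C2 {H : Subgroup G} (h1 : MM ≤ H) (h2 : ∀ x ∈ MM, C.φ eh * x * (C.φ eh)⁻¹ ∈ H) :
    (∀ g, C.φ g ∈ H) ∧ Subgroup.centralizer ({C.z} : Set G) ≤ H := by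
  have hφ : ∀ g, C.φ g ∈ H := by
    have hX : C.φ XM ∈ H := by
      rw [X_eq, map_mul, map_mul, map_mul, map_inv]
      exact H.mul_mem (h1 (phi_mem C hMM a_mem (by decide) a_pow))
        (h2 _ (phi_mem C hMM b_mem (by decide) b_pow))
    have hY : C.φ YM ∈ H := by
      rw [Y_eq, map_mul, map_mul, map_inv]
      exact h2 _ (phi_mem C hMM y_mem (by decide) y_pow)
    have h3 : (⊤ : Subgroup M24) ≤ H.comap C.φ := by
      rw [← Cfsg.Agent.J4.M24Hom.closure_XYM, Subgroup.closure_le]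
      rintro g (rfl | rfl)
      · exact hX
      · exact hY
    exact fun g => h3 (Subgroup.mem_top g)
  refine ⟨hφ, FinalGen.centralizer_le C H hφ (h1 (z_mem C hMM)) ?_⟩
  have hm : (em : Equiv.Perm GolayPt) ∈ M22d := by
    refine Subgroup.mem_inf.2 ⟨em.2, MulAction.mem_stabilizer_iff.2 ?_⟩
    have hb : base = fin 8388609 := by decide +kernel
    have hp : pimg Pm 8388609 = 8388609 := by decide +kernel
    rw [hb]
    show permOf Pm isPerm_Pm • fin 8388609 = _
    rw [smul_fin, hp]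
  rw [← C.P_range] at hm
  obtain ⟨x, hx⟩ := hm
  refine ⟨x, h1 ((hMM x).2 ⟨x.2, ?_⟩), ?_⟩
  · show C.P x none = none
    rw [hx]
    apply idx_injective
    rw [tab_m none]
    decide +kernel
  · rw [hx]
    have h0 : hex0 = fin 8391797 := by decide +kernel
    rw [h0]
    show permOf Pm isPerm_Pm • fin 8391797 ≠ _
    rw [smul_fin]
    intro h
    have h5 := congrArg maskOf h
    rw [maskOf_fin (m := pimg Pm 8391797) (by decide +kernel),
      maskOf_fin (m := 8391797) (by norm_num)] at h5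
    exact absurd h5 (by decide +kernel)

end

end Cfsg.Agent.KFacts.J4.Gen

end

-- merged: Cfsg.Agent.KFacts.J4.GenTop
section

/-!
# J4: generation (helper615, for helper869's sheet of J4)

* `eq_top` : in a finite simple group with a `Compl`, a subgroup containing `φ(M24)` and `C_G(z)`
  is everything;
* `exists_pair` : two conjugates of `MM` which generate, and whose intersection has centraliser
  `{1, z, z', z z'}`.
-/

set_option autoImplicit false

open scoped Pointwise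

namespace Cfsg.Agent.KFacts.J4.GenTop

open Cfsg Cfsg.Agent.J4Type Cfsg.Agent.J4Type.FinalRel Cfsg.Agent.J4Type.FinalTau
open Cfsg.Agent.J4.M24Hom (XM YM)
open Cfsg.Agent.KFacts.J4.Base (MM mem_MM)

variable {G : Type*} [Group G]

/-- a subgroup containing `φ(M24)` and `C_G(z)` is everything -/
theorem eq_top [Finite G] [IsSimpleGroup G] (C : J4Type.Compl G)
    {H : Subgroup G} (hφ : ∀ g, C.φ g ∈ H)
    (hz : Subgroup.centralizer ({C.z} : Set G) ≤ H) : H = ⊤ := by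
  have hJ := Cfsg.Agent.S1703.result
  have hsimp := hJ.1
  have hfin : Finite Cfsg.Spor.J4 := Final.finite_J4 hJ
  obtain ⟨T, rfl⟩ := TauMain.exists_tau C
  have F := Tau.tauFam T (Rel2.relator2 T)
  have htz : T.t TM ∈ Subgroup.centralizer ({T.z} : Set G) := by
    obtain ⟨h1, -, -⟩ := T.t_hex1 TM TM_mem refTM
    rw [Subgroup.mem_centralizer_singleton_iff]
    exact (T.E_elem hex1 HexMax.hex1_isHex).2 _ h1 _ (T.z_mem_E hex1 HexMax.hex1_isHex)
  obtain ⟨f, hphi, ht, hs, -, -⟩ := F.exists_hom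
  have hinj : Function.Injective f := FinalEmb.TauFam.injective hs
  have hcard : Nat.card Cfsg.Spor.J4 = Nat.card G := by
    obtain ⟨f', hf'⟩ := Top.exists_bijective_of_tau T (Rel2.relator2 T)
    exact Nat.card_congr (Equiv.ofBijective f' hf')
  have hsurj : Function.Surjective f :=
    ((Nat.bijective_iff_injective_and_card f).2 ⟨hinj, hcard⟩).2
  have hT0 : T.t T0 ∈ H := FinalTrio.Fam.mem F.fam H hφ TM_mem (hz htz) T0_mem
  have hx : f Cfsg.Agent.J4.Rep112.x = T.φ XM := by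
    rw [← Cfsg.Agent.J4.Pres.phi_X, hphi]
  have hy : f Cfsg.Agent.J4.Rep112.y = T.φ YM := by
    rw [← Cfsg.Agent.J4.Pres.phi_Y, hphi]
  have h1 : (⊤ : Subgroup Cfsg.Spor.J4) ≤ H.comap f := by
    rw [← Cfsg.Agent.J4.Rep112.closure_eq_top, Subgroup.closure_le]
    rintro g (rfl | rfl | rfl)
    · show f _ ∈ H
      rw [hx]
      exact hφ _
    · show f _ ∈ H
      rw [hy]
      exact hφ _
    · show f _ ∈ H
      rw [ht]
      exact hT0
  rw [eq_top_iff]
  intro g _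
  obtain ⟨u, rfl⟩ := hsurj g
  exact h1 (Subgroup.mem_top u)

/-- **(C1), (C2)** in helper869's form -/
theorem exists_pair [Finite G] [IsSimpleGroup G] (C : J4Type.Compl G) : ∃ n : G,
    n * C.z * n⁻¹ ≠ C.z ∧ n * C.z * n⁻¹ ∈ MM C.toCent ∧
    (∀ s : G, (∀ c ∈ MM C.toCent, n⁻¹ * c * n ∈ MM C.toCent → s * c = c * s) →
      s = 1 ∨ s = C.z ∨ s = n * C.z * n⁻¹ ∨ s = C.z * (n * C.z * n⁻¹)) ∧
    Subgroup.closure ((MM C.toCent : Set G) ∪ {x | n⁻¹ * x * n ∈ MM C.toCent}) = ⊤ := by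
  have hMM : ∀ x : G, x ∈ MM C.toCent ↔
      ∃ hx : x ∈ Subgroup.centralizer ({C.z} : Set G), C.P ⟨x, hx⟩ none = none :=
    fun x => mem_MM
  refine ⟨C.φ Gen.eh, Gen.z'_ne C, ?_, fun s hs => Gen.C1 C hMM hs, ?_⟩
  · rw [Gen.conj_z]
    exact Gen.E_le C hMM (TauMask.c_mem C.toFrame (by decide +kernel))
  · obtain ⟨h3, h4⟩ := Gen.C2 C hMM
      (H := Subgroup.closure ((MM C.toCent : Set G) ∪ {x | (C.φ Gen.eh)⁻¹ * x * C.φ Gen.eh ∈ MM C.toCent}))
      (fun x hx => Subgroup.subset_closure (Or.inl hx))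
      (fun x hx => Subgroup.subset_closure (Or.inr (by
        show (C.φ Gen.eh)⁻¹ * (C.φ Gen.eh * x * (C.φ Gen.eh)⁻¹) * C.φ Gen.eh ∈ MM C.toCent
        have e : (C.φ Gen.eh)⁻¹ * (C.φ Gen.eh * x * (C.φ Gen.eh)⁻¹) * C.φ Gen.eh = x := by group
        rw [e]
        exact hx)))
    exact eq_top C h3 h4

end Cfsg.Agent.KFacts.J4.GenTop

end

-- merged: Cfsg.Agent.KFacts.J4.SheetJ4
section

/-!
# The fourth Janko group: the sheet of type (E)

`inner`: every automorphism of `J4` is inner; `exists_sheet`: `SheetE z P R` with `P = 2^{1+12}.3.M22`, `R = 2^{1+12}`.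
-/

set_option autoImplicit false

namespace Cfsg.Agent.KFacts.J4.SheetJ4

open Cfsg Cfsg.Agent.J4Type Cfsg.Agent.KFacts.J4.Base

variable {K : Type*} [Group K]

theorem M_eq (C : Cent K) : FusionCent.M C = MM C := by
  ext x
  rw [FusionCent.mem_M, mem_MM]

theorem der (C : Cent K) :
    ∃ m, OddHalf.TR.dser m (Subgroup.centralizer ({C.z} : Set K)) ≤ MM C := by
  rw [← M_eq]
  exact Easy.der C

/-- an automorphism centralising `MM` is trivial or the conjugation by `z` -/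
theorem cent_eq [Finite K] [IsSimpleGroup K] (C : J4Type.Compl K) (α : MulAut K)
    (hα : ∀ x ∈ MM C.toCent, α x = x) : α = 1 ∨ α = MulAut.conj C.z := by
  obtain ⟨n, -, -, h1, h2⟩ := GenTop.exists_pair C
  have hzz : C.z * C.z = 1 := Easy.zz C.toCent
  have hzi : C.z⁻¹ = C.z := inv_eq_of_mul_eq_one_left hzz
  obtain ⟨t, ht⟩ : ∃ t, α n = t * n := ⟨α n * n⁻¹, by group⟩
  -- `α` on `n MM n⁻¹`
  have hx : ∀ x : K, n⁻¹ * x * n ∈ MM C.toCent → α x = t * x * t⁻¹ := by
    intro x hx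
    have h3 := hα _ hx
    rw [map_mul, map_mul, map_inv, ht] at h3
    have h4 : α x = t * n * ((t * n)⁻¹ * α x * (t * n)) * (t * n)⁻¹ := by group
    rw [h4, h3]
    group
  have htc : ∀ c ∈ MM C.toCent, n⁻¹ * c * n ∈ MM C.toCent → t * c = c * t := by
    intro c hc hc'
    have h3 := hx c hc'
    rw [hα c hc] at h3
    exact (eq_mul_inv_iff_mul_eq.1 h3).symm
  have hend : ∀ γ : MulAut K, (∀ x ∈ MM C.toCent, α x = γ x) →
      (∀ x, n⁻¹ * x * n ∈ MM C.toCent → α x = γ x) → α = γ := by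
    intro γ hγ1 hγ2
    have h3 : Subgroup.closure ((MM C.toCent : Set K) ∪ {x | n⁻¹ * x * n ∈ MM C.toCent}) ≤
        (α.toMonoidHom).eqLocus γ.toMonoidHom := by
      rw [Subgroup.closure_le]
      rintro x (hx | hx)
      · exact hγ1 x hx
      · exact hγ2 x hx
    rw [h2] at h3
    exact MulEquiv.ext fun x => h3 (Subgroup.mem_top x)
  have hz' : ∀ x : K, n⁻¹ * x * n ∈ MM C.toCent → (n * C.z * n⁻¹) * x = x * (n * C.z * n⁻¹) := by
    intro x hx
    have h3 := comm_z hx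
    calc n * C.z * n⁻¹ * x = n * (C.z * (n⁻¹ * x * n)) * n⁻¹ := by group
      _ = n * (n⁻¹ * x * n * C.z) * n⁻¹ := by rw [h3]
      _ = x * (n * C.z * n⁻¹) := by group
  have hcz : ∀ x ∈ MM C.toCent, α x = MulAut.conj C.z x := by
    intro x hx
    rw [hα x hx, MulAut.conj_apply, ← comm_z hx, mul_inv_cancel_right]
  rcases h1 t htc with h | h | h | h
  · left
    refine hend 1 hα fun x hx' => ?_
    rw [hx x hx', h]
    simp
  · right
    refine hend _ hcz fun x hx' => ?_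
    rw [hx x hx', h, MulAut.conj_apply]
  · left
    refine hend 1 hα fun x hx' => ?_
    rw [hx x hx', h, hz' x hx', mul_inv_cancel_right]
    rfl
  · right
    refine hend _ hcz fun x hx' => ?_
    rw [hx x hx', h, MulAut.conj_apply, mul_inv_rev]
    calc C.z * (n * C.z * n⁻¹) * x * ((n * C.z * n⁻¹)⁻¹ * C.z⁻¹) =
        C.z * ((n * C.z * n⁻¹) * x * (n * C.z * n⁻¹)⁻¹) * C.z⁻¹ := by group
      _ = C.z * x * C.z⁻¹ := by rw [hz' x hx', mul_inv_cancel_right]

/-- **automorphisms fixing `z` are inner** -/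
theorem inner_of_fix [Finite K] [IsSimpleGroup K] (F : Full K) {α : MulAut K} (hα : α F.C.z = F.C.z) :
    ∃ p : K, p * F.C.z = F.C.z * p ∧ α = MulAut.conj p := by
  have hmap : ∀ β : MulAut K, β F.C.z = F.C.z → ∀ x ∈ MM F.C.toCent, β x ∈ MM F.C.toCent :=
    fun β hβ x hx => OddHalf.D8.Sheet.map_P F.perf (fun y hy => comm_z hy) (der F.C.toCent) β hβ hx
  have hαs : α.symm F.C.z = F.C.z := by
    rw [MulEquiv.symm_apply_eq]
    exact hα.symm
  let β : MulAut (MM F.C.toCent) :=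
    { toFun := fun c => ⟨α c, hmap α hα c c.2⟩
      invFun := fun c => ⟨α.symm c, hmap α.symm hαs c c.2⟩
      left_inv := fun c => Subtype.ext (α.symm_apply_apply _)
      right_inv := fun c => Subtype.ext (α.apply_symm_apply _)
      map_mul' := fun a b => Subtype.ext (map_mul α _ _) }
  obtain ⟨p, hp, h1⟩ := AutP.exists_conj F.D F.perf β
  have hβ : ∀ c ∈ MM F.C.toCent, α c = p * c * p⁻¹ := fun c hc => h1 ⟨c, hc⟩
  rcases cent_eq F.C ((MulAut.conj p)⁻¹ * α) (by
    intro c hc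
    rw [OutQ.conj_inv_mul_apply, hβ c hc]; group) with h2 | h2
  · exact ⟨p, hp, (inv_mul_eq_one.1 h2).symm⟩
  · refine ⟨p * F.C.z, by rw [hp, mul_assoc, hp], ?_⟩
    rw [map_mul, ← h2, mul_inv_cancel_left]

/-- **every automorphism is inner** -/
theorem inner [Finite K] [IsSimpleGroup K] (F : Full K) (α : MulAut K) : ∃ p : K, α = MulAut.conj p := by
  have : Fact (Nat.Prime 2) := ⟨Nat.prime_two⟩
  obtain ⟨S, hzS, hS, hZ⟩ := Easy.syl F.C.toCent
  have hcard : Nat.card ((S : Subgroup K).map α.toMonoidHom) = Nat.card S :=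
    (Nat.card_congr ((S : Subgroup K).equivMapOfInjective α.toMonoidHom α.injective).toEquiv).symm
  let T : Sylow 2 K := Sylow.ofCard ((S : Subgroup K).map α.toMonoidHom) (by
    rw [hcard, ← Sylow.card_eq_multiplicity S])
  obtain ⟨g, hg⟩ := MulAction.exists_smul_eq K T S
  have hT : ∀ x ∈ S, g * α x * g⁻¹ ∈ S := by
    intro x hx
    have h1 : α x ∈ T := ⟨x, hx, rfl⟩
    have h2 : g * α x * g⁻¹ ∈ (g • T : Sylow 2 K) := by
      rw [Sylow.smul_def]
      exact ⟨α x, h1, rfl⟩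
    rwa [hg] at h2
  have hT' : ∀ y ∈ S, ∃ x ∈ S, y = g * α x * g⁻¹ := by
    intro y hy
    have h1 : y ∈ (g • T : Sylow 2 K) := by rw [hg]; exact hy
    rw [Sylow.smul_def] at h1
    obtain ⟨t, ⟨x, hx, rfl⟩, rfl⟩ := h1
    exact ⟨x, hx, rfl⟩
  have hfix : (MulAut.conj g * α) F.C.z = F.C.z := by
    rw [MulAut.mul_apply, MulAut.conj_apply]
    rcases hZ (g * α F.C.z * g⁻¹) (hT _ hzS) (by
      intro y hy
      obtain ⟨x, hx, rfl⟩ := hT' y hy
      have h1 : α x * α F.C.z = α F.C.z * α x := by rw [← map_mul, ← map_mul, hS x hx]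
      calc g * α x * g⁻¹ * (g * α F.C.z * g⁻¹) = g * (α x * α F.C.z) * g⁻¹ := by group
        _ = g * (α F.C.z * α x) * g⁻¹ := by rw [h1]
        _ = g * α F.C.z * g⁻¹ * (g * α x * g⁻¹) := by group) with h1 | h1
    · exfalso
      apply Easy.z1 F.C.toCent
      apply α.injective
      rw [map_one]
      calc α F.C.z = g⁻¹ * (g * α F.C.z * g⁻¹) * g := by group
        _ = 1 := by rw [h1]; group
    · exact h1
  obtain ⟨p, -, hp⟩ := inner_of_fix F hfix
  refine ⟨g⁻¹ * p, ?_⟩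
  rw [map_mul, ← hp, map_inv, inv_mul_cancel_left]

/-- **The sheet.** -/
theorem sheet [Finite K] [IsSimpleGroup K] (F : Full K) :
    OddHalf.D8.Sheet.SheetE F.C.z (MM F.C.toCent) F.C.Q := by
  have hrange : (MulAut.conj : K →* MulAut K).range = ⊤ := by
    rw [eq_top_iff]
    intro α _
    obtain ⟨p, hp⟩ := inner F α
    exact ⟨p, hp.symm⟩
  exact
    { zz := Easy.zz F.C.toCent
      z1 := Easy.z1 F.C.toCent
      syl := Easy.syl F.C.toCent
      cen := fun x hx => comm_z hx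
      perf := F.perf
      der := der F.C.toCent
      out := by rw [hrange, Subgroup.index_top]; decide
      schreier := ⟨0, by rw [hrange]; exact le_top⟩
      zR := F.C.z_mem_Q
      RP := Q_le_MM F.C.toCent
      R2 := Easy.Q2 F.C.toCent
      Rn := fun x hx r hr => F.C.Q_conj x (comm_z hx) r hr
      Rmax := fun B hB hB2 hn => AutP.rmax hB hB2 hn
      Rmin := fun B hB hn => Irr.irr F.D hB hn
      Rna := Easy.Rna F.C.toCent
      cR := by
        have h := Easy.cR F.C.toCent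
        rw [M_eq] at h
        exact h
      aut := by
        intro α hα2 hαz hα
        obtain ⟨p, hpz, rfl⟩ := inner_of_fix F hαz
        have hpC := Subgroup.mem_centralizer_singleton_iff.2 hpz
        -- `P p = 1`
        have h1 : F.C.P ⟨p, hpC⟩ = 1 := by
          apply Aut22.eq_one_of_centralizes (PreHexA.P_mem _)
          intro m
          obtain ⟨y, rfl⟩ := AutP.pi_surjective F.C.toCent m
          have h2 : (y : K)⁻¹ * (p * y * p⁻¹) ∈ F.C.Q := hα y y.2
          have h3 : F.C.P (⟨y, MM_le _ y.2⟩⁻¹ * (⟨p, hpC⟩ * ⟨y, MM_le _ y.2⟩ * ⟨p, hpC⟩⁻¹)) = 1 :=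
            (F.C.P_ker _).2 ⟨_, h2, 0, by rw [pow_zero, mul_one]; rfl⟩
          rw [map_mul, map_mul, map_mul, map_inv, map_inv, inv_mul_eq_one] at h3
          exact h3.symm
        obtain ⟨q, hq, i, h2⟩ := (F.C.P_ker _).1 h1
        have h2' : p = q * F.C.ρ ^ i := h2
        -- `p` is a 2-element
        obtain ⟨k, hk⟩ := hα2 ⟨MulAut.conj p, Subgroup.mem_zpowers _⟩
        have h3 : MulAut.conj (p ^ 2 ^ k) = 1 := by
          rw [map_pow]
          exact congrArg Subtype.val hk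
        have h4 : ∀ x : K, p ^ 2 ^ k * x = x * p ^ 2 ^ k := by
          intro x
          have h5 : MulAut.conj (p ^ 2 ^ k) x = x := by rw [h3]; rfl
          rw [MulAut.conj_apply] at h5
          exact mul_inv_eq_iff_eq_mul.1 h5
        have h5 : p ^ 2 ^ (k + 1) = 1 := by
          rw [pow_succ, pow_mul, pow_two]
          rcases F.C.Q_cent _ (fun q _ => h4 q) with h6 | h6
          · rw [h6, one_mul]
          · rw [h6]; exact Easy.zz F.C.toCent
        rw [h2'] at h5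
        have h6 := AutP.mem_Q_of_two hq h5
        refine ⟨p, ?_, rfl⟩
        rw [h2', h6, mul_one]
        exact hq
      ytrick := by
        obtain ⟨k, h1, h2, h3⟩ := Easy.exists_k F.C
        rw [M_eq] at h1 h3
        refine ⟨k, h1, h2, h3, fun β _ => ?_⟩
        obtain ⟨p, hp, h4⟩ := AutP.exists_conj F.D F.perf β
        exact ⟨p, hp, h4 _⟩ }

/-- **The sheet of type (E) for every group isomorphic to `J4`.** -/
theorem exists_sheet {K : Type*} [Group K] (h : Cfsg.Spor.IsoJ4 K) :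
    ∃ (z : K) (P R : Subgroup K), OddHalf.D8.Sheet.SheetE z P R := by
  obtain ⟨h1, h2, ⟨F⟩⟩ := exists_full h
  exact ⟨_, _, _, sheet F⟩

end Cfsg.Agent.KFacts.J4.SheetJ4

end
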