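import Mathlib
import Cfsg.Agent.J4C.Link
import Cfsg.Prelude.Def_Sporadic
import Cfsg.Agent.J4Type.IsPOf
import Cfsg.Agent.S1663
import Cfsg.Agent.J4M.CenBound
import Cfsg.Agent.J4M.SimpleR
import Cfsg.Agent.J4Type.Top
import Cfsg.Agent.S1703
import Cfsg.Agent.J2.ExtQuot
import Cfsg.Agent.J4Type.Aut22
import Cfsg.Agent.J4Type.ComplExists_mg
import Cfsg.Agent.FastGrp
import Cfsg.Agent.Prune
set_option linter.all false
prune_inst 0x7ffefffbaff8bfffffff7e7fffffdfffbbf8ffffffdffffbfffdffffbfdf7b6fffe5fbafffecd2fdbef6e2be30f87b53fdffdeffef6bdc7ffffd5ff45fffffdfffffbf8971ff9cbe1fbe2ffff3f17fff7f3fffffffffffffffffffffffffffffffffffffffff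
open scoped Cfsg.Agent.FastGrp

-- merged: Cfsg.Agent.KFacts.J4.DataR
section

/-!
# The structure of the involution centraliser of J4: the explicit homomorphism

`exists_data`: a group `C` of order at most `21799895040` that contains the 26 matrices has a surjection `θ` onto the
automorphism group of the Steiner system `S(3,6,22)` with kernel `EE ⟨r⟩` of order `3 · 2^13`, `EE` extraspecial and
normal, and there are `a, b` with `θ(a)³ = θ(b)³ = 1` and `a b = z · prd 75 · r · b a`.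
-/

set_option autoImplicit false

namespace Cfsg.Agent.KFacts.J4.DataR

open Cfsg.Agent.J4C.Data Cfsg.Agent.J4C.Steiner Cfsg.Agent.J4C.Theta Cfsg.Agent.J4C.Act
open Cfsg.Agent.J4C.Ext Cfsg.Agent.J4C.ExtThm Cfsg.Agent.J4C.Struct Cfsg.Agent.J4C.Final
open Cfsg.Agent.Lib Cfsg.Agent.Lib.F2MatGroup
open Cfsg.Agent.LargeExtra.Model Cfsg.Agent.LargeExtra.Pres

/-- the abstract part: the partial homomorphism is defined everywhere -/
theorem extend {C : Type*} [Group C] [Finite C] (hC : Nat.card C ≤ 21799895040) {A : Type*}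
    [Group A] [Finite A] (hA : Nat.card A = 887040)
    (C0 : Subgroup C) (θ : C0 →* A) (himg : 887040 ≤ Nat.card θ.range) (E : Subgroup C)
    (hE0 : E ≤ C0) (hEk : ∀ e (he : e ∈ E), θ ⟨e, hE0 he⟩ = 1) (hEcard : Nat.card E = 2 ^ 13)
    (r : C) (hr0 : r ∈ C0) (hrk : θ ⟨r, hr0⟩ = 1)
    (hr3 : r ^ 3 = 1) (hr1 : r ≠ 1) (hrE : ∀ e ∈ E, r * e * r⁻¹ ∈ E) :
    ∃ θ' : C →* A, Function.Surjective θ' ∧ Nat.card θ'.ker = 3 * 2 ^ 13 ∧
      (∀ c : C0, θ' c = θ c) ∧ E ≤ θ'.ker ∧ r ∈ θ'.ker ∧ E.Normal := by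
  have hfac : Nat.card C0 = Nat.card θ.range * Nat.card θ.ker := by
    rw [Subgroup.card_eq_card_quotient_mul_card_subgroup θ.ker,
      Nat.card_congr (QuotientGroup.quotientKerEquivRange θ).toEquiv]
  have hrange : Nat.card θ.range ≤ 887040 := by
    rw [← hA]; exact Subgroup.card_le_card_group _
  have hrange' : Nat.card θ.range = 887040 := le_antisymm hrange himg
  have h2 : 2 ^ 13 ∣ Nat.card θ.ker := by
    have h3 : E.subgroupOf C0 ≤ θ.ker := by
      intro x hx
      rw [MonoidHom.mem_ker]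
      exact hEk x hx
    have h4 : Nat.card (E.subgroupOf C0) = 2 ^ 13 := by
      rw [Nat.card_congr (Subgroup.subgroupOfEquivOfLe hE0).toEquiv, hEcard]
    rw [← h4]; exact Subgroup.card_dvd_of_le h3
  have h3 : 3 ∣ Nat.card θ.ker := by
    have : Fact (Nat.Prime 3) := ⟨by norm_num⟩
    have ho : orderOf r = 3 := orderOf_eq_prime hr3 hr1
    have hk : (⟨r, hr0⟩ : C0) ∈ θ.ker := MonoidHom.mem_ker.mpr hrk
    have ho' : orderOf (⟨⟨r, hr0⟩, hk⟩ : θ.ker) = 3 := by
      rw [Subgroup.orderOf_mk, Subgroup.orderOf_mk, ho]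
    rw [← ho']; exact orderOf_dvd_natCard _
  have h4 : 3 * 2 ^ 13 ∣ Nat.card θ.ker :=
    Nat.Coprime.mul_dvd_of_dvd_of_dvd (by norm_num) h3 h2
  have h5 : 3 * 2 ^ 13 ≤ Nat.card θ.ker := Nat.le_of_dvd Nat.card_pos h4
  have h6 : Nat.card C0 ≤ Nat.card C := Subgroup.card_le_card_group _
  rw [hfac, hrange'] at h6
  have h7 : Nat.card θ.ker = 3 * 2 ^ 13 := by
    apply le_antisymm _ h5
    have h8 : 887040 * Nat.card θ.ker ≤ 887040 * (3 * 2 ^ 13) := by
      refine h6.trans (hC.trans ?_)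
      norm_num
    exact Nat.le_of_mul_le_mul_left h8 (by norm_num)
  have h8 : C0 = ⊤ := by
    apply Subgroup.eq_top_of_le_card
    rw [hfac, hrange', h7]
    refine hC.trans ?_
    norm_num
  subst h8
  have hsurj : Function.Surjective θ := by
    rw [← MonoidHom.range_eq_top]
    apply Subgroup.eq_top_of_le_card
    rw [hrange', hA]
  let e : C ≃* (⊤ : Subgroup C) := Subgroup.topEquiv.symm
  let θ' : C →* A := θ.comp e.toMonoidHom
  have hθ' : Function.Surjective θ' := by
    intro a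
    obtain ⟨x, hx⟩ := hsurj a
    exact ⟨x, by rw [← hx]; rfl⟩
  have hker : Nat.card θ'.ker = 3 * 2 ^ 13 := by
    rw [← h7]
    apply Nat.card_congr
    exact
      { toFun := fun x => ⟨e x, x.2⟩
        invFun := fun x => ⟨x.1.1, x.2⟩
        left_inv := fun _ => rfl
        right_inv := fun _ => rfl }
  have hEk' : E ≤ θ'.ker := fun x hx => hEk x hx
  have hrk' : r ∈ θ'.ker := hrk
  refine ⟨θ', hθ', hker, fun c => rfl, hEk', hrk', ?_⟩
  refine normal_of_index_three θ'.ker E hEk' hEcard hker ?_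
  let W : Subgroup C := θ'.ker ⊓ Subgroup.normalizer (E : Set C)
  have hEW : E ≤ W := le_inf hEk' Subgroup.le_normalizer
  have hrW : r ∈ W := by
    refine ⟨hrk', ?_⟩
    show r ∈ Subgroup.normalizer (E : Set C)
    rw [Subgroup.mem_normalizer_iff]
    intro e
    constructor
    · intro he; exact hrE e he
    · intro he
      have hr2 : r⁻¹ = r * r := by
        rw [inv_eq_iff_mul_eq_one, ← pow_two, ← pow_succ']; exact hr3
      have h1 := hrE _ (hrE _ he)
      have h2 : r * (r * (r * e * r⁻¹) * r⁻¹) * r⁻¹ = r ^ 3 * e * (r ^ 3)⁻¹ := by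
        rw [pow_three]; group
      rw [h2, hr3] at h1
      simpa using h1
  have h2 : 2 ^ 13 ∣ Nat.card W := by
    rw [← hEcard]; exact Subgroup.card_dvd_of_le hEW
  have h3 : 3 ∣ Nat.card W := by
    have : Fact (Nat.Prime 3) := ⟨by norm_num⟩
    have ho : orderOf r = 3 := orderOf_eq_prime hr3 hr1
    have ho' : orderOf (⟨r, hrW⟩ : W) = 3 := by rw [← ho]; exact Subgroup.orderOf_mk r hrW
    rw [← ho']; exact orderOf_dvd_natCard _
  have h4 : 3 * 2 ^ 13 ∣ Nat.card W :=
    Nat.Coprime.mul_dvd_of_dvd_of_dvd (by norm_num) h3 h2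
  have h5 : Nat.card W ≤ Nat.card θ'.ker := Subgroup.card_le_of_le inf_le_left
  have h6 : W = θ'.ker := by
    apply Subgroup.eq_of_le_of_card_ge inf_le_left
    rw [hker]
    exact Nat.le_of_dvd Nat.card_pos h4
  intro n hn q hq
  have h7 : n ∈ W := by rw [h6]; exact hn
  exact (Subgroup.mem_normalizer_iff.mp h7.2 q).mp hq

/-- the words `a`, `b` in the list extended by the straight line program -/
def wa : List ℕ := [23, 44, 44]
def wb : List ℕ := [19, 43, 41, 42, 23, 44, 44, 45, 44, 43, 19]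

theorem check_ab : check 112 mats prog [(wa ++ wb, [17] ++ (pw 12 75 ++ ([0] ++ (wb ++ wa))))] [] = true := by
  decide +kernel

theorem tau_a : evG (runG prog tauL) wa ^ 3 = 1 := by decide +kernel

theorem tau_b : evG (runG prog tauL) wb ^ 3 = 1 := by decide +kernel

/-- **The explicit homomorphism.** -/
theorem exists_data {C : Type*} [Group C] [Finite C] (φ : C →* GL (Fin 112) (ZMod 2))
    (hφ : Function.Injective φ) (hcard : Nat.card C ≤ 21799895040) (s : Fin 26 → C)
    (hs : ∀ i, Codes 112 (φ (s i)) (mats.getD i 0)) :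
    ∃ (θ : C →* Cfsg.setSystemAut (Set.range blk)) (L : List C)
      (hL : List.Forall₂ (Codes 112) (L.map φ) mats), Function.Surjective θ ∧
      Nat.card θ.ker = 3 * 2 ^ 13 ∧ EE φ hφ L hL ≤ θ.ker ∧ re L ∈ θ.ker ∧
      (EE φ hφ L hL).Normal ∧ θ (evG (runG prog L) wa) ^ 3 = 1 ∧
      θ (evG (runG prog L) wb) ^ 3 = 1 := by
  classical
  obtain ⟨hA, -, H, hH, hM⟩ := Cfsg.Agent.S0414.result (α := Fin 22) (by simp) isSteiner
  let _ := act φ
  obtain ⟨θ, hθ⟩ := exists_theta (vec C) blk (vec_injective C) hblk s (fun i => tau (up i))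
    (fun i => mem_pairs φ i (s i) (hs i))
  let C0 : Subgroup C := Subgroup.closure (Set.range s)
  let s' : Fin 26 → C0 := fun i => ⟨s i, Subgroup.subset_closure ⟨i, rfl⟩⟩
  let f : C0 →* Equiv.Perm (Fin 22) := (Subgroup.subtype _).comp θ
  have hfs : ∀ i, f (s' i) = tau (up i) := hθ
  let g0 : Fin 28 → C0 := ext28 s'
  have hf : ∀ i, f (g0 i) = tau i := by
    intro i
    show f (ext28 s' i) = tau i
    unfold ext28
    split_ifs with h1 h2
    · rw [hfs]; rfl
    · rw [map_inv, hfs]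
      have : i = 26 := Fin.ext h2
      rw [this, ← tau_inv1]; rfl
    · rw [map_inv, hfs]
      have : i = 27 := Fin.ext (by have := i.2; omega)
      rw [this, ← tau_inv2]; rfl
  let L0 : List C0 := (List.finRange 28).map g0
  have hL0 : L0.map f = tauL := by
    rw [List.map_map, tauL]
    apply List.map_congr_left
    intro i _
    exact hf i
  have hcodes : ∀ i : Fin 28, Codes 112 (φ (g0 i : C)) (mats.getD i 0) := by
    intro i
    show Codes 112 (φ ((ext28 s' i : C0) : C)) (mats.getD i 0)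
    unfold ext28
    split_ifs with h1 h2
    · exact hs ⟨i, h1⟩
    · rw [h2, Subgroup.coe_inv, map_inv]
      exact codes26 (hs ⟨23, by norm_num⟩)
    · have h3 : i.1 = 27 := by have := i.2; omega
      rw [h3, Subgroup.coe_inv, map_inv]
      exact codes27 (hs ⟨24, by norm_num⟩)
  let L : List C := L0.map C0.subtype
  have hL : List.Forall₂ (Codes 112) (L.map φ) mats := by
    rw [mats_eq, List.map_map, List.map_map, List.forall₂_map_left_iff,
      List.forall₂_map_right_iff, List.forall₂_same]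
    intro i _
    exact hcodes i
  -- the elements of the straight line program lie in `C0` and in the kernel
  have hget : ∀ i, getG (runG prog L) i = (getG (runG prog L0) i : C0) := by
    intro i
    show getG (runG prog (L0.map C0.subtype)) i = _
    rw [runG_map, getG_map]; rfl
  have hone : ∀ i : Fin 18, i.1 ≠ 1 → i.1 ≠ 2 → i.1 ≠ 15 → i.1 ≠ 16 →
      θ (getG (runG prog L0) i) = 1 := by
    intro i h1 h2 h3 h4
    apply Subtype.ext
    show f (getG (runG prog L0) i) = 1
    rw [← getG_map, ← runG_map, hL0]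
    exact words_ok i h1 h2 h3 h4
  let K : Subgroup C := θ.ker.map C0.subtype
  have hK : ∀ i : Fin 18, i.1 ≠ 1 → i.1 ≠ 2 → i.1 ≠ 15 → i.1 ≠ 16 → getG (runG prog L) i ∈ K := by
    intro i h1 h2 h3 h4
    rw [hget]
    exact ⟨_, hone i h1 h2 h3 h4, rfl⟩
  have hEK : EE φ hφ L hL ≤ K := by
    apply EE_le
    · exact hK 17 (by decide) (by decide) (by decide) (by decide)
    · intro i hi
      have h1 : Nat.sub 14 i = 14 - i := rfl
      refine hK ⟨qi i, ?_⟩ ?_ ?_ ?_ ?_ <;> simp only [qi] <;> omega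
  have hE0 : EE φ hφ L hL ≤ C0 := by
    refine hEK.trans ?_
    rintro _ ⟨x, -, rfl⟩
    exact x.2
  have hrK : re L ∈ K := hK 0 (by decide) (by decide) (by decide) (by decide)
  have hr0 : re L ∈ C0 := by
    obtain ⟨x, -, hx⟩ := hrK
    rw [← hx]; exact x.2
  have hKe : ∀ e (he : e ∈ C0), e ∈ K → θ ⟨e, he⟩ = 1 := by
    rintro e he ⟨x, hx, rfl⟩
    exact hx
  have himg : 887040 ≤ Nat.card θ.range := by
    have h1 : 887040 ≤ Nat.card f.range := by
      apply Cfsg.Agent.J4C.Steiner.card_ge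
      intro i
      exact ⟨g0 i, hf i⟩
    have h2 : f.range = θ.range.map (Subgroup.subtype _) := by
      rw [MonoidHom.map_range]
    rw [h2] at h1
    rwa [← Nat.card_congr (Subgroup.equivMapOfInjective θ.range _
      (Subgroup.subtype_injective _)).toEquiv] at h1
  obtain ⟨θ', h1, h2, h3, h4, h5, h6⟩ := extend hcard hA C0 θ himg (EE φ hφ L hL) hE0
    (fun e he => hKe e (hE0 he) (hEK he)) (card_EE φ hφ L hL)
    (re L) hr0 (hKe _ hr0 hrK) (r_cube φ hφ L hL) (r_ne φ L hL) (r_normalizes φ hφ L hL)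
  have hword : ∀ w : List ℕ, ((θ' (evG (runG prog L) w) : Cfsg.setSystemAut (Set.range blk)) :
      Equiv.Perm (Fin 22)) = evG (runG prog tauL) w := by
    intro w
    have e1 : evG (runG prog L) w = ((evG (runG prog L0) w : C0) : C) := by
      show evG (runG prog (L0.map C0.subtype)) w = _
      rw [runG_map, evG_map]; rfl
    rw [e1, h3, ← hL0, runG_map, evG_map]
    rfl
  refine ⟨θ', L, hL, h1, h2, h4, h5, h6, ?_, ?_⟩
  · apply Subtype.ext
    rw [Subgroup.coe_pow, hword, tau_a]; rfl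
  · apply Subtype.ext
    rw [Subgroup.coe_pow, hword, tau_b]; rfl

/-- the commutator relation -/
theorem comm_rel {C : Type*} [Group C] (φ : C →* GL (Fin 112) (ZMod 2))
    (hφ : Function.Injective φ) (L : List C) (hL : List.Forall₂ (Codes 112) (L.map φ) mats) :
    ∃ e ∈ EE φ hφ L hL, evG (runG prog L) wa * evG (runG prog L) wb *
      (evG (runG prog L) wa)⁻¹ * (evG (runG prog L) wb)⁻¹ = e * re L := by
  have h := (check_sound (by norm_num) hL check_ab).1 _ (List.mem_singleton.2 rfl)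
  have h2 : evG (runG prog L) (wa ++ wb) =
      evG (runG prog L) ([17] ++ (pw 12 75 ++ ([0] ++ (wb ++ wa)))) := by
    apply hφ
    rw [← evG_map, ← evG_map, ← runG_map]
    exact h
  rw [evG_append, evG_append, evG_append, evG_append, evG_append, evG_pw] at h2
  refine ⟨ze L * prd (xx L) 12 75, Subgroup.mul_mem _ (z_mem φ hφ L hL)
    (prd_mem _ (fun j hj => x_mem φ hφ L hL j hj) _), ?_⟩
  have h3 : evG (runG prog L) [17] = ze L := by
    rw [evG_cons, evG_nil, mul_one]; rfl
  have h4 : evG (runG prog L) [0] = re L := by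
    rw [evG_cons, evG_nil, mul_one]; rfl
  rw [h3, h4] at h2
  rw [h2]
  group

end Cfsg.Agent.KFacts.J4.DataR

end

-- merged: Cfsg.Agent.KFacts.J4.MkHyp
section

/-!
# The hypotheses of S1670 from a surjection onto `M22.2`
-/

set_option autoImplicit false

namespace Cfsg.Agent.KFacts.J4.MkHyp

open scoped commutatorElement

/-- `M22` is generated by its squares -/
theorem mem_of_squares {H : Type*} [Group H] [Finite H] (hM : Cfsg.IsM22 H) (T : Subgroup H) (hT : T.Normal)
    (h : ∀ x : H, x * x ∈ T) : T = ⊤ := by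
  have := hM.1
  rcases hT.eq_bot_or_eq_top with h1 | h1
  · exfalso
    have h2 : ∀ x : H, x * x = 1 := fun x => by
      have := h x
      rwa [h1, Subgroup.mem_bot] at this
    have : Fact (Nat.Prime 3) := ⟨by norm_num⟩
    obtain ⟨x, hx⟩ := exists_prime_orderOf_dvd_card' (G := H) 3 (by rw [hM.2]; norm_num)
    have h3 : orderOf x ∣ 2 := orderOf_dvd_of_pow_eq_one (by rw [pow_two]; exact h2 x)
    rw [hx] at h3
    norm_num at h3
  · exact h1

/-- `M22` is perfect -/
theorem comm_eq_top {H : Type*} [Group H] [Finite H] (hM : Cfsg.IsM22 H) : commutator H = ⊤ := by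
  have := hM.1
  rcases (inferInstance : (commutator H).Normal).eq_bot_or_eq_top with h1 | h1
  · exfalso
    have hcomm : ∀ x y : H, x * y = y * x := by
      intro x y
      have h2 : ⁅x, y⁆ ∈ commutator H := Subgroup.commutator_mem_commutator trivial trivial
      rw [h1, Subgroup.mem_bot, commutatorElement_eq_one_iff_mul_comm] at h2
      exact h2
    let S : Subgroup H := ⊤
    have : Fact (Nat.Prime 11) := ⟨by norm_num⟩
    obtain ⟨x, hx⟩ := exists_prime_orderOf_dvd_card' (G := H) 11 (by rw [hM.2]; norm_num)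
    have hn : (Subgroup.zpowers x).Normal := by
      constructor
      intro n hn g
      rw [hcomm g n, mul_assoc, mul_inv_cancel, mul_one]
      exact hn
    rcases hn.eq_bot_or_eq_top with h2 | h2
    · rw [Subgroup.zpowers_eq_bot] at h2
      rw [h2, orderOf_one] at hx
      norm_num at hx
    · have h3 : Nat.card (Subgroup.zpowers x) = Nat.card H := by
        rw [h2]; exact Nat.card_congr Subgroup.topEquiv.toEquiv
      rw [Nat.card_zpowers, hx, hM.2] at h3
      norm_num at h3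
  · exact h1

theorem core {C : Type*} [Group C] [Finite C]
    {A : Type*} [Group A] [Finite A] (θ : C →* A)
    (hs : Function.Surjective θ) (H : Subgroup A) (hH : H.index = 2) (hM : Cfsg.IsM22 H)
    (hcen : ∀ a : A, (∀ h ∈ H, a * h = h * a) → a = 1) (N M : Subgroup C) (hN : N = θ.ker)
    (hM' : M = H.comap θ)
    (hk : Nat.card N = 3 * 2 ^ 13) (Q : Subgroup C)
    (hQn : Q.Normal) (hQk : Q ≤ N) (hQc : Nat.card Q = 2 ^ 13)
    (r a b : C) (hrk : r ∈ N)
    (hr : ∃ e ∈ Q, ∀ x ∈ Q, r * e * r⁻¹ ≠ x * e * x⁻¹)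
    (ha : θ a ^ 3 = 1) (hb : θ b ^ 3 = 1) (hab : ∃ e ∈ Q, a * b * a⁻¹ * b⁻¹ = e * r) :
    ⁅M, N⁆ ≤ Q ∧ M ≤ ⁅M, M⁆ ⊔ Q ∧ Subgroup.centralizer (Q : Set C) ≤ Q := by
  have hHn : H.Normal := Subgroup.normal_of_index_eq_two hH
  have hNn : N.Normal := by rw [hN]; infer_instance
  have hMn : M.Normal := by rw [hM']; infer_instance
  have hMmem : ∀ m, m ∈ M ↔ θ m ∈ H := by
    intro m; rw [hM', Subgroup.mem_comap]
  have hNM : N ≤ M := by
    intro x hx
    rw [hN] at hx
    rw [hMmem, MonoidHom.mem_ker.mp hx]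
    exact H.one_mem
  have hrQ : r ∉ Q := by
    intro h
    obtain ⟨e, he, h1⟩ := hr
    exact h1 r h rfl
  -- the quotient `N / Q` has order 3 and is generated by `r`
  have hcardN : Nat.card (N.map (QuotientGroup.mk' Q)) = 3 := by
    have h1 := Subgroup.card_eq_card_quotient_mul_card_subgroup (Q.subgroupOf N)
    rw [hk, Nat.card_congr (Subgroup.subgroupOfEquivOfLe hQk).toEquiv, hQc] at h1
    have h2 : Nat.card (N ⧸ Q.subgroupOf N) = 3 := (Nat.eq_of_mul_eq_mul_right (by norm_num) h1).symm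
    rw [← h2]
    let f : N →* (N.map (QuotientGroup.mk' Q)) := (QuotientGroup.mk' Q).subgroupMap N
    have hf : Function.Surjective f := (QuotientGroup.mk' Q).subgroupMap_surjective N
    have hfk : f.ker = Q.subgroupOf N := by
      ext x
      rw [MonoidHom.mem_ker, Subgroup.mem_subgroupOf]
      constructor
      · intro h
        exact (QuotientGroup.eq_one_iff _).1 (congrArg Subtype.val h)
      · intro h
        exact Subtype.ext ((QuotientGroup.eq_one_iff _).2 h)
    rw [← hfk]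
    exact (Nat.card_congr (QuotientGroup.quotientKerEquivOfSurjective f hf).toEquiv).symm
  have hgen : ∀ n ∈ N, ∀ c ∈ N, c ∉ Q → ∃ k : ℤ, ∃ q ∈ Q, n = q * c ^ k := by
    intro n hn c hc hcQ
    have hc1 : QuotientGroup.mk' Q c ≠ 1 := by
      intro h
      exact hcQ ((QuotientGroup.eq_one_iff _).1 h)
    have hz : Subgroup.zpowers (QuotientGroup.mk' Q c) = N.map (QuotientGroup.mk' Q) := by
      have hle : Subgroup.zpowers (QuotientGroup.mk' Q c) ≤ N.map (QuotientGroup.mk' Q) := by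
        rw [Subgroup.zpowers_le]
        exact ⟨c, hc, rfl⟩
      apply Subgroup.eq_of_le_of_card_ge hle
      rw [hcardN]
      have h2 := Subgroup.card_dvd_of_le hle
      rw [hcardN, Nat.dvd_prime (by norm_num)] at h2
      rcases h2 with h2 | h2
      · exfalso
        apply hc1
        rw [Subgroup.card_eq_one, Subgroup.zpowers_eq_bot] at h2
        exact h2
      · omega
    have hn2 : QuotientGroup.mk' Q n ∈ Subgroup.zpowers (QuotientGroup.mk' Q c) := by
      rw [hz]; exact ⟨n, hn, rfl⟩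
    obtain ⟨k, hk⟩ := Subgroup.mem_zpowers_iff.1 hn2
    refine ⟨k, n * (c ^ k)⁻¹, ?_, by group⟩
    rw [← QuotientGroup.eq_one_iff]
    show QuotientGroup.mk' Q (n * (c ^ k)⁻¹) = 1
    rw [map_mul, map_inv, map_zpow, hk, mul_inv_cancel]
  -- elements with cube in `H`
  have hcube : ∀ x : A, x ^ 3 = 1 → x ∈ H := by
    intro x hx
    have h1 : x * x ∈ H := Subgroup.mul_self_mem_of_index_two hH x
    have h2 : x = (x * x)⁻¹ := by
      rw [eq_inv_iff_mul_eq_one, ← pow_three]
      exact hx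
    rw [h2]
    exact H.inv_mem h1
  have haM : a ∈ M := (hMmem a).2 (hcube _ ha)
  have hbM : b ∈ M := (hMmem b).2 (hcube _ hb)
  -- `[M, N] ≤ Q`
  have hcent : ⁅M, N⁆ ≤ Q := by
    let rb : C ⧸ Q := QuotientGroup.mk' Q r
    have hrb : ∀ c : C, (QuotientGroup.mk' Q c) * rb * (QuotientGroup.mk' Q c)⁻¹ = rb ∨
        (QuotientGroup.mk' Q c) * rb * (QuotientGroup.mk' Q c)⁻¹ = rb⁻¹ := by
      intro c
      have h1 : c * r * c⁻¹ ∈ N := hNn.conj_mem r hrk c
      obtain ⟨k, q, hq, h2⟩ := hgen _ h1 r hrk hrQ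
      have h3 : (QuotientGroup.mk' Q c) * rb * (QuotientGroup.mk' Q c)⁻¹ = rb ^ k := by
        have h4 := congrArg (QuotientGroup.mk' Q) h2
        rw [map_mul, map_mul, map_inv, map_mul, map_zpow] at h4
        have h5 : QuotientGroup.mk' Q q = 1 := (QuotientGroup.eq_one_iff _).2 hq
        rw [h5, one_mul] at h4
        exact h4
      have h4 : rb ^ 3 = 1 := by
        have h5 : (⟨rb, ⟨r, hrk, rfl⟩⟩ : N.map (QuotientGroup.mk' Q)) ^ 3 = 1 := by
          rw [← hcardN]; exact pow_card_eq_one'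
        exact congrArg Subtype.val h5
      have h5 : rb ≠ 1 := fun h => hrQ ((QuotientGroup.eq_one_iff _).1 h)
      have h6 : rb ^ k = rb ^ (k % 3) := by
        conv_lhs => rw [← Int.mul_ediv_add_emod k 3]
        rw [zpow_add, zpow_mul]
        have : rb ^ (3 : ℤ) = 1 := by exact_mod_cast h4
        rw [this, one_zpow, one_mul]
      have h7 : k % 3 = 0 ∨ k % 3 = 1 ∨ k % 3 = 2 := by omega
      rw [h3, h6]
      rcases h7 with h7 | h7 | h7
      · exfalso
        rw [h6, h7, zpow_zero, mul_inv_eq_one] at h3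
        exact h5 (mul_eq_left.1 h3)
      · left; rw [h7, zpow_one]
      · right
        rw [h7, eq_inv_iff_mul_eq_one]
        have : rb ^ (2 : ℤ) = rb * rb := by rw [show (2 : ℤ) = 1 + 1 by norm_num, zpow_add, zpow_one]
        rw [this, mul_assoc, ← pow_three]
        exact h4
    -- elements commuting with `rb`
    let K1 : Subgroup C := (Subgroup.centralizer ({rb} : Set (C ⧸ Q))).comap (QuotientGroup.mk' Q)
    have hK1 : ∀ c : C, c ∈ K1 ↔ QuotientGroup.mk' Q c * rb = rb * QuotientGroup.mk' Q c := by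
      intro c
      rw [Subgroup.mem_comap, Subgroup.mem_centralizer_singleton_iff]
    have hsq : ∀ c : C, c * c ∈ K1 := by
      intro c
      rw [hK1, map_mul, ← mul_inv_eq_iff_eq_mul]
      set d := QuotientGroup.mk' Q c
      have e1 : d * d * rb * (d * d)⁻¹ = d * (d * rb * d⁻¹) * d⁻¹ := by group
      rw [e1]
      rcases hrb c with h | h
      · rw [h, h]
      · rw [h]
        have e2 : d * rb⁻¹ * d⁻¹ = (d * rb * d⁻¹)⁻¹ := by group
        rw [e2, h, inv_inv]
    have hNK : N ≤ K1 := by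
      intro n hn
      obtain ⟨k, q, hq, rfl⟩ := hgen n hn r hrk hrQ
      rw [hK1, map_mul, map_zpow, show QuotientGroup.mk' Q q = 1 from
        (QuotientGroup.eq_one_iff q).2 hq, one_mul]
      exact ((Commute.refl rb).zpow_left k).eq
    have hK1n : K1.Normal := by
      constructor
      intro n hn c
      rw [hK1] at hn ⊢
      rw [map_mul, map_mul, map_inv]
      set d := QuotientGroup.mk' Q c
      set m := QuotientGroup.mk' Q n
      rcases hrb c⁻¹ with h | h
      · rw [map_inv, inv_inv] at h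
        have h1 : d⁻¹ * rb = rb * d⁻¹ := eq_mul_inv_of_mul_eq h
        have h2 : d * rb = rb * d := by
          have : d * (d⁻¹ * rb) * d = d * (rb * d⁻¹) * d := by rw [h1]
          calc d * rb = d * (rb * d⁻¹) * d := by group
            _ = d * (d⁻¹ * rb) * d := by rw [h1]
            _ = rb * d := by group
        calc d * m * d⁻¹ * rb = d * m * (d⁻¹ * rb) := by group
          _ = d * (m * rb) * d⁻¹ := by rw [h1]; group
          _ = (d * rb) * m * d⁻¹ := by rw [hn]; group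
          _ = rb * (d * m * d⁻¹) := by rw [h2]; group
      · rw [map_inv, inv_inv] at h
        have h1 : d⁻¹ * rb = rb⁻¹ * d⁻¹ := eq_mul_inv_of_mul_eq h
        have h2 : d * rb⁻¹ = rb * d := by
          calc d * rb⁻¹ = d * (rb⁻¹ * d⁻¹) * d := by group
            _ = d * (d⁻¹ * rb) * d := by rw [h1]
            _ = rb * d := by group
        have h3 : m * rb⁻¹ = rb⁻¹ * m := by
          rw [mul_inv_eq_iff_eq_mul, mul_assoc, hn, ← mul_assoc, inv_mul_cancel, one_mul]
        calc d * m * d⁻¹ * rb = d * m * (d⁻¹ * rb) := by group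
          _ = d * (m * rb⁻¹) * d⁻¹ := by rw [h1]; group
          _ = (d * rb⁻¹) * m * d⁻¹ := by rw [h3]; group
          _ = rb * (d * m * d⁻¹) := by rw [h2]; group
    -- the image of `K1 ∩ M` in `H`
    let T : Subgroup H := (K1.map θ).subgroupOf H
    have hTn : T.Normal := by
      have : (K1.map θ).Normal := hK1n.map θ hs
      exact this.subgroupOf H
    have hTtop : T = ⊤ := by
      apply mem_of_squares hM T hTn
      intro x
      obtain ⟨c, hc⟩ := hs (x : A)
      show (((x * x : H) : A)) ∈ K1.map θ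
      rw [Subgroup.coe_mul, ← hc, ← map_mul]
      exact ⟨c * c, hsq c, rfl⟩
    have hMK : M ≤ K1 := by
      intro m hm
      have h1 : (⟨θ m, (hMmem m).1 hm⟩ : H) ∈ T := by rw [hTtop]; trivial
      obtain ⟨c, hc, h2⟩ := h1
      have h2' : θ c = θ m := h2
      have h3 : c⁻¹ * m ∈ N := by
        rw [hN, MonoidHom.mem_ker, map_mul, map_inv, h2', inv_mul_cancel]
      have h4 : m = c * (c⁻¹ * m) := by group
      rw [h4]
      exact K1.mul_mem hc (hNK h3)
    rw [Subgroup.commutator_le]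
    intro m hm n hn
    obtain ⟨k, q, hq, rfl⟩ := hgen n hn r hrk hrQ
    rw [← QuotientGroup.eq_one_iff]
    show QuotientGroup.mk' Q (⁅m, q * r ^ k⁆) = 1
    rw [map_commutatorElement, map_mul, map_zpow, show QuotientGroup.mk' Q q = 1 from
      (QuotientGroup.eq_one_iff _).2 hq, one_mul, commutatorElement_eq_one_iff_mul_comm]
    have hcm : Commute (QuotientGroup.mk' Q m) rb := (hK1 m).1 (hMK hm)
    exact (hcm.zpow_right k).eq
  -- `M / Q` perfect
  have hrD : r ∈ ⁅M, M⁆ ⊔ Q := by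
    obtain ⟨e, he, h1⟩ := hab
    have h2 : r = e⁻¹ * (a * b * a⁻¹ * b⁻¹) := by rw [h1]; group
    rw [h2]
    apply Subgroup.mul_mem
    · exact (le_sup_right : Q ≤ _) (Q.inv_mem he)
    · exact (le_sup_left : ⁅M, M⁆ ≤ _) (Subgroup.commutator_mem_commutator haM hbM)
  have hND : N ≤ ⁅M, M⁆ ⊔ Q := by
    intro n hn
    obtain ⟨k, q, hq, rfl⟩ := hgen n hn r hrk hrQ
    exact Subgroup.mul_mem _ ((le_sup_right : Q ≤ _) hq) (Subgroup.zpow_mem _ hrD k)
  have hθM : M.map θ = H := by rw [hM']; exact Subgroup.map_comap_eq_self_of_surjective hs H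
  have hθMM : ⁅M, M⁆.map θ = H := by
    rw [Subgroup.map_commutator, hθM]
    have h1 := comm_eq_top hM
    have h2 : (commutator H).map H.subtype = ⁅H, H⁆ := by
      rw [commutator_def, Subgroup.map_commutator, ← MonoidHom.range_eq_map, Subgroup.range_subtype]
    rw [← h2, h1, ← MonoidHom.range_eq_map, Subgroup.range_subtype]
  have hperf : M ≤ ⁅M, M⁆ ⊔ Q := by
    intro m hm
    have h1 : θ m ∈ ⁅M, M⁆.map θ := by rw [hθMM]; exact (hMmem m).1 hm
    obtain ⟨c, hc, h2⟩ := h1
    have h3 : c⁻¹ * m ∈ N := by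
      rw [hN, MonoidHom.mem_ker, map_mul, map_inv, h2, inv_mul_cancel]
    have h4 : m = c * (c⁻¹ * m) := by group
    rw [h4]
    exact Subgroup.mul_mem _ ((le_sup_left : ⁅M, M⁆ ≤ _) hc) (hND h3)
  -- `C_C(Q) ≤ Q`
  have hself : Subgroup.centralizer (Q : Set C) ≤ Q := by
    set X := Subgroup.centralizer (Q : Set C) with hX
    have hXn : X.Normal := by
      constructor
      intro x hx c
      rw [hX, Subgroup.mem_centralizer_iff] at hx ⊢
      intro q hq
      have h1 : c⁻¹ * q * c ∈ Q := by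
        have := hQn.conj_mem q hq c⁻¹
        rwa [inv_inv] at this
      have h2 := hx _ h1
      calc q * (c * x * c⁻¹) = c * (c⁻¹ * q * c * x) * c⁻¹ := by group
        _ = c * (x * (c⁻¹ * q * c)) * c⁻¹ := by rw [h2]
        _ = c * x * c⁻¹ * q := by group
    have hXN : ∀ x ∈ X, x ∈ N → x ∈ Q := by
      intro x hx hxN
      by_contra hxQ
      obtain ⟨k, q, hq, h1⟩ := hgen r hrk x hxN hxQ
      obtain ⟨e, he, h2⟩ := hr
      apply h2 q hq
      have h3 : x ^ k ∈ X := X.zpow_mem hx k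
      have h4 := (Subgroup.mem_centralizer_iff.1 h3) e he
      rw [h1]
      calc q * x ^ k * e * (q * x ^ k)⁻¹ = q * (x ^ k * e) * (x ^ k)⁻¹ * q⁻¹ := by group
        _ = q * e * q⁻¹ := by rw [← h4]; group
    have hXA : (X.map θ).Normal := hXn.map θ hs
    have hsimp := hM.1
    rcases (hXA.subgroupOf H).eq_bot_or_eq_top with h1 | h1
    · intro x hx
      apply hXN x hx
      rw [hN, MonoidHom.mem_ker]
      apply hcen
      intro h hh
      have h2 : θ x * h * (θ x)⁻¹ * h⁻¹ ∈ X.map θ := by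
        have h3 : θ x * (h * (θ x)⁻¹ * h⁻¹) ∈ X.map θ :=
          Subgroup.mul_mem _ ⟨x, hx, rfl⟩ (hXA.conj_mem _ (Subgroup.inv_mem _ ⟨x, hx, rfl⟩) h)
        have h4 : θ x * h * (θ x)⁻¹ * h⁻¹ = θ x * (h * (θ x)⁻¹ * h⁻¹) := by group
        rw [h4]; exact h3
      have h3 : θ x * h * (θ x)⁻¹ * h⁻¹ ∈ H :=
        H.mul_mem (hHn.conj_mem h hh _) (H.inv_mem hh)
      have h4 : (⟨_, h3⟩ : H) ∈ (X.map θ).subgroupOf H := h2
      rw [h1, Subgroup.mem_bot] at h4
      have h5 : θ x * h * (θ x)⁻¹ * h⁻¹ = 1 := congrArg Subtype.val h4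
      rw [mul_inv_eq_one, mul_inv_eq_iff_eq_mul] at h5
      exact h5
    · exfalso
      have hXQn : (X ⊔ Q).Normal := inferInstance
      have hdec : ∀ m ∈ M, ∃ x ∈ X, ∃ n ∈ N, m = x * n := by
        intro m hm
        have h2 : (⟨θ m, (hMmem m).1 hm⟩ : H) ∈ (X.map θ).subgroupOf H := by rw [h1]; trivial
        obtain ⟨x, hx, h3⟩ := h2
        have h3' : θ x = θ m := h3
        refine ⟨x, hx, x⁻¹ * m, ?_, by group⟩
        rw [hN, MonoidHom.mem_ker, map_mul, map_inv, h3', inv_mul_cancel]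
      have hMM : ⁅M, M⁆ ≤ X ⊔ Q := by
        rw [Subgroup.commutator_le]
        intro m hm m' hm'
        obtain ⟨x, hx, n, hn, rfl⟩ := hdec m hm
        obtain ⟨x', hx', n', hn', rfl⟩ := hdec m' hm'
        rw [← QuotientGroup.eq_one_iff]
        show QuotientGroup.mk' (X ⊔ Q) ⁅x * n, x' * n'⁆ = 1
        rw [map_commutatorElement, map_mul, map_mul,
          show QuotientGroup.mk' (X ⊔ Q) x = 1 from (QuotientGroup.eq_one_iff _).2
            ((le_sup_left : X ≤ _) hx),
          show QuotientGroup.mk' (X ⊔ Q) x' = 1 from (QuotientGroup.eq_one_iff _).2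
            ((le_sup_left : X ≤ _) hx'), one_mul, one_mul, ← map_commutatorElement]
        show ((⁅n, n'⁆ : C) : C ⧸ (X ⊔ Q)) = 1
        rw [QuotientGroup.eq_one_iff]
        exact (le_sup_right : Q ≤ _) (hcent (Subgroup.commutator_mem_commutator (hNM hn) hn'))
      have hMX : M ≤ X ⊔ Q := hperf.trans (sup_le hMM le_sup_right)
      have hrX : r ∈ X ⊔ Q := hMX (hNM hrk)
      obtain ⟨x, hx, q, hq, h2⟩ := Subgroup.mem_sup_of_normal_left.1 hrX
      apply hrQ
      rw [← h2]
      refine Q.mul_mem (hXN x hx ?_) hq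
      have h3 : x = r * q⁻¹ := by rw [← h2]; group
      rw [h3]
      exact N.mul_mem hrk (N.inv_mem (hQk hq))
  exact ⟨hcent, hperf, hself⟩

theorem mk {G : Type*} [Group G] [Finite G] {t : G} (ht : orderOf t = 2)
    {A : Type*} [Group A] [Finite A] (θ : Subgroup.centralizer ({t} : Set G) →* A)
    (hs : Function.Surjective θ) (H : Subgroup A) (hH : H.index = 2) (hM : Cfsg.IsM22 H)
    (hcen : ∀ a : A, (∀ h ∈ H, a * h = h * a) → a = 1)
    (hk : Nat.card θ.ker = 3 * 2 ^ 13) (Q : Subgroup (Subgroup.centralizer ({t} : Set G)))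
    (hQn : Q.Normal) (hQk : Q ≤ θ.ker) (hQc : Nat.card Q = 2 ^ 13) (hQe : Cfsg.IsExtraspecial 2 Q)
    (hplus : ∃ E : Subgroup Q, Cfsg.IsElementaryAbelian 2 E ∧ Nat.card E = 2 ^ 7)
    (r a b : Subgroup.centralizer ({t} : Set G)) (hrk : r ∈ θ.ker)
    (hr : ∃ e ∈ Q, ∀ x ∈ Q, r * e * r⁻¹ ≠ x * e * x⁻¹)
    (ha : θ a ^ 3 = 1) (hb : θ b ^ 3 = 1) (hab : ∃ e ∈ Q, a * b * a⁻¹ * b⁻¹ = e * r) :
    Cfsg.Agent.J4Type.Hyp t Q θ.ker (H.comap θ) := by
  obtain ⟨h1, h2, h3⟩ := core θ hs H hH hM hcen θ.ker (H.comap θ) rfl rfl hk Q hQn hQk hQc r a b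
    hrk hr ha hb hab
  have hHn : H.Normal := Subgroup.normal_of_index_eq_two hH
  have hNM : θ.ker ≤ H.comap θ := by
    intro x hx
    rw [Subgroup.mem_comap, MonoidHom.mem_ker.mp hx]
    exact H.one_mem
  exact
    { ht := ht
      Qn := hQn
      Nn := inferInstance
      Mn := inferInstance
      QN := hQk
      NM := hNM
      index_M := by rw [Subgroup.index_comap_of_surjective H hs, hH]
      extra := hQe
      card_Q := hQc
      plus := hplus
      card_N := by rw [hk, hQc]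
      cent := h1
      perf := h2
      self := h3
      out := by
        intro c hc
        apply hNM
        rw [MonoidHom.mem_ker]
        apply hcen
        intro h hh
        obtain ⟨m, rfl⟩ := hs h
        have h1 := hc m hh
        rw [MonoidHom.mem_ker, map_mul, map_mul, map_mul, map_inv, map_inv] at h1
        rw [mul_inv_eq_one, mul_inv_eq_iff_eq_mul] at h1
        exact h1
      pi := by
        obtain ⟨e⟩ := Cfsg.Agent.S1663.result hM
        let φ : (H.comap θ) →* H := (θ.comp (H.comap θ).subtype).codRestrict H (fun x => x.2)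
        refine ⟨e.toMonoidHom.comp φ, ?_, ?_⟩
        · apply e.surjective.comp
          intro h
          obtain ⟨c, hc⟩ := hs h
          exact ⟨⟨c, by rw [Subgroup.mem_comap, hc]; exact h.2⟩, Subtype.ext hc⟩
        · intro m
          show e (φ m) = 1 ↔ _
          rw [map_eq_one_iff e e.injective, MonoidHom.mem_ker]
          constructor
          · intro h; exact congrArg Subtype.val h
          · intro h; exact Subtype.ext h }

end Cfsg.Agent.KFacts.J4.MkHyp

end

-- merged: Cfsg.Agent.KFacts.J4.HypR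
section

/-!
# The fourth Janko group satisfies the hypotheses of S1670
-/

set_option autoImplicit false

namespace Cfsg.Agent.KFacts.J4.HypR

open Cfsg.Agent.J4C.Data Cfsg.Agent.J4C.Steiner Cfsg.Agent.J4C.Theta Cfsg.Agent.J4C.Act
open Cfsg.Agent.J4C.Ext Cfsg.Agent.J4C.ExtThm Cfsg.Agent.J4C.Struct Cfsg.Agent.J4C.Final
open Cfsg.Agent.Lib Cfsg.Agent.Lib.F2MatGroup
open Cfsg.Agent.LargeExtra.Model Cfsg.Agent.LargeExtra.Pres
open Cfsg.Agent.KFacts.J4.DataR

theorem bf_low : ∀ v w : Fin 64, bf B 12 v.1 w.1 = false := fun v w => by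
  have h : ∀ v : Fin 64, lin B 12 v.1 = 0 := by decide +kernel
  refine (xs_congr fun i _ => ?_).trans (xs_false 12)
  rw [h, Nat.zero_testBit, Bool.false_and]

/-- an elementary abelian subgroup of order `2^7` -/
def XE : Subgroup (XG B 12) where
  carrier := {g | g.v.1 < 64}
  one_mem' := by show (0 : ℕ) < 64; norm_num
  mul_mem' := by
    intro a b ha hb
    exact Nat.xor_lt_two_pow (n := 6) ha hb
  inv_mem' := by
    intro a ha
    exact ha

theorem card_XE : Nat.card XE = 2 ^ 7 := by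
  let e : XE ≃ Fin 64 × Bool :=
    { toFun := fun g => (⟨g.1.v.1, g.2⟩, g.1.s)
      invFun := fun p => ⟨⟨⟨p.1.1, p.1.2.trans (by norm_num)⟩, p.2⟩, p.1.2⟩
      left_inv := fun _ => rfl
      right_inv := fun _ => rfl }
  rw [Nat.card_congr e, Nat.card_prod, Nat.card_eq_fintype_card, Nat.card_eq_fintype_card,
    Fintype.card_fin, Fintype.card_bool]
  norm_num

theorem XE_comm (g h : XG B 12) (hg : g ∈ XE) (hh : h ∈ XE) : g * h = h * g := by
  rw [comm_iff]
  rw [bf_low ⟨g.v.1, hg⟩ ⟨h.v.1, hh⟩, bf_low ⟨h.v.1, hh⟩ ⟨g.v.1, hg⟩]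

theorem XE_sq (g : XG B 12) (hg : g ∈ XE) : g * g = 1 := by
  apply XG.ext'
  · rw [mul_v, Nat.xor_self]; rfl
  · rw [mul_s, bf_low ⟨g.v.1, hg⟩ ⟨g.v.1, hg⟩, one_s]
    cases g.s <;> rfl

section

variable {C : Type*} [Group C] (φ : C →* GL (Fin 112) (ZMod 2)) (hφ : Function.Injective φ)
  (L : List C) (hL : List.Forall₂ (Codes 112) (L.map φ) mats)

theorem plus : ∃ E : Subgroup (EE φ hφ L hL), Cfsg.IsElementaryAbelian 2 E ∧ Nat.card E = 2 ^ 7 := by
  have hinj := lift_injective (rels φ hφ L hL) hTri hNon (z_ne φ L hL)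
  let e : XG B 12 ≃* EE φ hφ L hL := MonoidHom.ofInjective hinj
  refine ⟨XE.map e.toMonoidHom, ?_, ?_⟩
  · constructor
    · constructor
      constructor
      rintro ⟨_, ⟨a, ha, rfl⟩⟩ ⟨_, ⟨b, hb, rfl⟩⟩
      apply Subtype.ext
      show e a * e b = e b * e a
      rw [← map_mul, XE_comm a b ha hb, map_mul]
    · rintro _ ⟨a, ha, rfl⟩
      show e a ^ 2 = 1
      rw [pow_two, ← map_mul, XE_sq a ha, map_one]
  · rw [← card_XE]
    exact (Nat.card_congr (XE.equivMapOfInjective e.toMonoidHom e.injective).toEquiv).symm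

theorem r_moves : ∃ e ∈ EE φ hφ L hL, ∀ x ∈ EE φ hφ L hL,
    re L * e * (re L)⁻¹ ≠ x * e * x⁻¹ := by
  have hinj := lift_injective (rels φ hφ L hL) hTri hNon (z_ne φ L hL)
  refine ⟨xx L 0, x_mem φ hφ L hL 0 (by norm_num), ?_⟩
  rintro _ ⟨g, rfl⟩ h
  have h1 := r_x φ hφ L hL 0 (by norm_num)
  rw [← mul_inv_eq_iff_eq_mul] at h1
  have h2 : re L * xx L 0 * (re L)⁻¹ =
      zp (ze L) ((img.getD 0 (0, 0)).2.testBit 0) * prd (xx L) 12 (img.getD 0 (0, 0)).1 := by
    rw [r_x φ hφ L hL 0 (by norm_num)]; group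
  have h3 : zp (ze L) ((img.getD 0 (0, 0)).2.testBit 0) * prd (xx L) 12 (img.getD 0 (0, 0)).1 =
      lift (rels φ hφ L hL) hTri ⟨⟨2, by norm_num⟩, true⟩ := rfl
  have h4 : xx L 0 = lift (rels φ hφ L hL) hTri (q B 12 ⟨0, by norm_num⟩) :=
    (lift_q _ _ ⟨0, by norm_num⟩).symm
  rw [h2, h3] at h
  rw [h4, ← map_inv, ← map_mul, ← map_mul] at h
  have h5 := hinj h
  have h6 := congrArg (fun g : XG B 12 => g.v.1) h5
  have h7 : (g * q B 12 ⟨0, by norm_num⟩ * g⁻¹).v.1 = (g.v.1 ^^^ 1) ^^^ g.v.1 := rfl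
  have h8 : (g.v.1 ^^^ 1) ^^^ g.v.1 = 1 := by
    rw [Nat.xor_comm g.v.1 1, Nat.xor_assoc, Nat.xor_self, Nat.xor_zero]
  rw [h7, h8] at h6
  exact absurd h6 (by norm_num)

end

theorem cen (H : Subgroup (Cfsg.setSystemAut (Set.range blk))) (hH : H.index = 2)
    (hM : Cfsg.IsM22 H)
    (h3 : MulAction.IsMultiplyPretransitive (Cfsg.setSystemAut (Set.range blk)) (Fin 22) 3)
    (a : Cfsg.setSystemAut (Set.range blk)) (ha : ∀ h ∈ H, a * h = h * a) : a = 1 := by
  have hHn : H.Normal := Subgroup.normal_of_index_eq_two hH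
  have hsimp := hM.1
  have hZ : ∀ b : Cfsg.setSystemAut (Set.range blk), b ∈ H → (∀ h ∈ H, b * h = h * b) → b = 1 := by
    intro b hb hb2
    have h1 : (⟨b, hb⟩ : H) ∈ Subgroup.center H := by
      rw [Subgroup.mem_center_iff]
      intro g
      exact Subtype.ext (hb2 g g.2).symm
    rcases (inferInstance : (Subgroup.center H).Normal).eq_bot_or_eq_top with h2 | h2
    · rw [h2, Subgroup.mem_bot] at h1
      exact congrArg Subtype.val h1
    · exfalso
      have h4 : commutator H = ⊥ := by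
        rw [commutator_def, Subgroup.commutator_eq_bot_iff_le_centralizer, ← h2]
        exact Subgroup.center_le_centralizer _
      have h5 := Cfsg.Agent.KFacts.J4.MkHyp.comm_eq_top hM
      rw [h4] at h5
      have h6 : Nat.card H = 1 := by
        rw [← Subgroup.card_top (G := H), ← h5, Subgroup.card_bot]
      rw [hM.2] at h6
      norm_num at h6
  have hall : ∀ b : Cfsg.setSystemAut (Set.range blk), a * b = b * a := by
    intro b
    have h1 : a * b * a⁻¹ * b⁻¹ = 1 := by
      apply hZ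
      · have h2 : ∀ x y : Cfsg.setSystemAut (Set.range blk) ⧸ H, x * y = y * x := by
          have hc : Nat.card (Cfsg.setSystemAut (Set.range blk) ⧸ H) = 2 := hH
          have : Fact (Nat.Prime 2) := ⟨Nat.prime_two⟩
          have := isCyclic_of_prime_card (p := 2) hc
          intro x y
          obtain ⟨g, hg⟩ := IsCyclic.exists_generator (α := Cfsg.setSystemAut (Set.range blk) ⧸ H)
          obtain ⟨i, rfl⟩ := Subgroup.mem_zpowers_iff.1 (hg x)
          obtain ⟨j, rfl⟩ := Subgroup.mem_zpowers_iff.1 (hg y)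
          rw [← zpow_add, ← zpow_add, add_comm]
        rw [← QuotientGroup.eq_one_iff]
        show ((a : Cfsg.setSystemAut (Set.range blk) ⧸ H) * b * (a : _ ⧸ H)⁻¹ * (b : _ ⧸ H)⁻¹) = 1
        rw [h2 (a : _ ⧸ H) b]
        group
      · intro h hh
        have h2 : b⁻¹ * h * b ∈ H := by
          have := hHn.conj_mem h hh b⁻¹
          rwa [inv_inv] at this
        have h3 := ha _ h2
        have h3' : a⁻¹ * (b⁻¹ * h * b) = (b⁻¹ * h * b) * a⁻¹ := by
          rw [inv_mul_eq_iff_eq_mul, ← mul_assoc, h3]; group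
        calc a * b * a⁻¹ * b⁻¹ * h = a * b * (a⁻¹ * (b⁻¹ * h * b)) * b⁻¹ := by group
          _ = a * b * ((b⁻¹ * h * b) * a⁻¹) * b⁻¹ := by rw [h3']
          _ = (a * h) * b * a⁻¹ * b⁻¹ := by group
          _ = h * (a * b * a⁻¹ * b⁻¹) := by rw [ha h hh]; group
    rw [mul_inv_eq_one, mul_inv_eq_iff_eq_mul] at h1
    exact h1
  by_contra hne
  have hne' : (a : Equiv.Perm (Fin 22)) ≠ 1 := fun h => hne (Subtype.ext h)
  obtain ⟨x, hx⟩ : ∃ x, (a : Equiv.Perm (Fin 22)) x ≠ x := by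
    by_contra hcon
    push Not at hcon
    exact hne' (Equiv.ext hcon)
  have h2 : MulAction.IsMultiplyPretransitive (Cfsg.setSystemAut (Set.range blk)) (Fin 22) 2 :=
    MulAction.isMultiplyPretransitive_of_le (n := 3) (by norm_num) (by simp)
  obtain ⟨y, hyx, hy⟩ : ∃ y : Fin 22, y ≠ x ∧ y ≠ (a : Equiv.Perm (Fin 22)) x := by
    by_contra hcon
    push Not at hcon
    have h4 : (Finset.univ : Finset (Fin 22)) ⊆ {x, (a : Equiv.Perm (Fin 22)) x} := by
      intro y _
      by_cases h : y = x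
      · simp [h]
      · simp [hcon y h]
    have h5 := Finset.card_le_card h4
    have h6 := Finset.card_insert_le x {(a : Equiv.Perm (Fin 22)) x}
    simp only [Finset.card_univ, Fintype.card_fin, Finset.card_singleton] at h5 h6
    omega
  rw [MulAction.is_two_pretransitive_iff] at h2
  obtain ⟨g, hg1, hg2⟩ := h2 (a := x) (b := (a : Equiv.Perm (Fin 22)) x) (c := x) (d := y)
    hx.symm hyx.symm
  have h7 := hall g
  have h8 : (a * g) • x = (g * a) • x := by rw [h7]
  rw [mul_smul, mul_smul, hg1] at h8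
  have h9 : g • (a • x) = y := hg2
  rw [h9] at h8
  exact hy h8.symm

open Cfsg.Agent.J4C.Link Cfsg.Agent.J4M.Base in
/-- **J4 satisfies the hypotheses of S1670.** -/
theorem exists_hyp : ∃ Q N M : Subgroup Cz, Cfsg.Agent.J4Type.Hyp zR Q N M := by
  have hfin : Finite R := inferInstance
  obtain ⟨θ, L, hL, h1, h2, h3, h4, h5, h6, h7⟩ := exists_data emb emb_injective
    Cfsg.Agent.J4M.CenBound.card_Cz_le
    (fun i => ⟨sR i, Subgroup.mem_centralizer_singleton_iff.mpr (sR_comm i)⟩) (by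
      intro i
      have h := codes_ev (sw i)
      rw [codes_ok i] at h
      exact h)
  obtain ⟨hA, htr, H, hH, hM⟩ := Cfsg.Agent.S0414.result (α := Fin 22) (by simp) isSteiner
  exact ⟨_, _, _, Cfsg.Agent.KFacts.J4.MkHyp.mk orderOf_zR θ h1 H hH hM (cen H hH hM htr) h2
    (EE emb emb_injective L hL) h5 h3 (card_EE _ _ _ _) (isExtraspecial_EE _ _ _ _)
    (plus _ _ _ _) (re L) _ _ h4 (r_moves _ _ _ _) h6 h7 (comm_rel _ _ _ _)⟩

end Cfsg.Agent.KFacts.J4.HypR

end

-- merged: Cfsg.Agent.KFacts.J4.Transport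
section

/-!
# Every group isomorphic to J4 satisfies the hypotheses of S1670

`exists_hyp_of_iso`: `IsoJ4 K → ∃ t Q N M, Hyp t Q N M`.
-/

set_option autoImplicit false

namespace Cfsg.Agent.KFacts.J4.Transport

open Cfsg.Agent.J4Type
open scoped commutatorElement

variable {G G' : Type*} [Group G] [Group G']

/-- the isomorphism between the centralisers -/
def cEquiv (e : G ≃* G') (t : G) :
    Subgroup.centralizer ({t} : Set G) ≃* Subgroup.centralizer ({e t} : Set G') where
  toFun c := ⟨e c, Subgroup.mem_centralizer_singleton_iff.2 (by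
    rw [← map_mul, Subgroup.mem_centralizer_singleton_iff.1 c.2, map_mul])⟩
  invFun c := ⟨e.symm c, Subgroup.mem_centralizer_singleton_iff.2 (by
    apply e.injective
    rw [map_mul, map_mul, e.apply_symm_apply]
    exact Subgroup.mem_centralizer_singleton_iff.1 c.2)⟩
  left_inv c := Subtype.ext (e.symm_apply_apply c)
  right_inv c := Subtype.ext (e.apply_symm_apply c)
  map_mul' a b := Subtype.ext (map_mul e (a : G) (b : G))

theorem transport (e : G ≃* G') {t : G} {Q N M : Subgroup (Subgroup.centralizer ({t} : Set G))}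
    (H : Hyp t Q N M) : Hyp (e t) (Q.map (cEquiv e t).toMonoidHom) (N.map (cEquiv e t).toMonoidHom)
      (M.map (cEquiv e t).toMonoidHom) := by
  set c := cEquiv e t with hc
  have hfQ : Finite Q := Nat.finite_of_card_ne_zero (by rw [H.card_Q]; norm_num)
  have hcs : Function.Surjective c.toMonoidHom := c.surjective
  have hci : Function.Injective c.toMonoidHom := c.injective
  have hQn := H.Qn
  have hNn := H.Nn
  have hMn := H.Mn
  have hcardQ : Nat.card (Q.map c.toMonoidHom) = Nat.card Q :=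
    (Nat.card_congr (Q.equivMapOfInjective c.toMonoidHom hci).toEquiv).symm
  have hcardN : Nat.card (N.map c.toMonoidHom) = Nat.card N :=
    (Nat.card_congr (N.equivMapOfInjective c.toMonoidHom hci).toEquiv).symm
  exact
    { ht := by rw [MulEquiv.orderOf_eq]; exact H.ht
      Qn := hQn.map _ hcs
      Nn := hNn.map _ hcs
      Mn := hMn.map _ hcs
      QN := Subgroup.map_mono H.QN
      NM := Subgroup.map_mono H.NM
      index_M := by
        rw [Subgroup.index_map_of_bijective c.bijective]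
        exact H.index_M
      extra := Cfsg.Agent.J2.ExtQuot.isExtraspecial_of_equiv
        (Q.equivMapOfInjective c.toMonoidHom hci) H.extra
      card_Q := by rw [hcardQ, H.card_Q]
      plus := by
        obtain ⟨E, ⟨h1, h2⟩, h3⟩ := H.plus
        let f := Q.equivMapOfInjective c.toMonoidHom hci
        refine ⟨E.map f.toMonoidHom, ⟨?_, ?_⟩, ?_⟩
        · constructor
          constructor
          rintro ⟨_, ⟨a, ha, rfl⟩⟩ ⟨_, ⟨b, hb, rfl⟩⟩
          apply Subtype.ext
          show f a * f b = f b * f a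
          have h4 := h1.1.1 ⟨a, ha⟩ ⟨b, hb⟩
          have h5 : a * b = b * a := congrArg Subtype.val h4
          rw [← map_mul, h5, map_mul]
        · rintro _ ⟨a, ha, rfl⟩
          show f a ^ 2 = 1
          rw [← map_pow, h2 a ha, map_one]
        · rw [← h3]
          exact (Nat.card_congr (E.equivMapOfInjective f.toMonoidHom f.injective).toEquiv).symm
      card_N := by rw [hcardN, hcardQ, H.card_N]
      cent := by
        rw [← Subgroup.map_commutator]
        exact Subgroup.map_mono H.cent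
      perf := by
        rw [← Subgroup.map_commutator, ← Subgroup.map_sup]
        exact Subgroup.map_mono H.perf
      self := by
        intro x hx
        refine ⟨c.symm x, H.self ?_, c.apply_symm_apply x⟩
        rw [Subgroup.mem_centralizer_iff] at hx ⊢
        intro q hq
        have h1 := hx (c q) ⟨q, hq, rfl⟩
        apply c.injective
        rw [map_mul, map_mul, c.apply_symm_apply]
        exact h1
      out := by
        intro x hx
        refine ⟨c.symm x, H.out _ ?_, c.apply_symm_apply x⟩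
        intro m hm
        obtain ⟨n, hn, h1⟩ := hx (c m) ⟨m, hm, rfl⟩
        have h2 : c.symm x * m * (c.symm x)⁻¹ * m⁻¹ = n := by
          apply c.injective
          rw [map_mul, map_mul, map_mul, map_inv, map_inv, c.apply_symm_apply]
          exact h1.symm
        rw [h2]
        exact hn
      pi := by
        obtain ⟨π, h1, h2⟩ := H.pi
        let f := M.equivMapOfInjective c.toMonoidHom hci
        refine ⟨π.comp f.symm.toMonoidHom, h1.comp f.symm.surjective, ?_⟩
        intro m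
        obtain ⟨m', rfl⟩ := f.surjective m
        show π (f.symm (f m')) = 1 ↔ _
        rw [f.symm_apply_apply, h2]
        constructor
        · intro h; exact ⟨m', h, rfl⟩
        · rintro ⟨n, hn, h3⟩
          have h4 : n = m' := c.injective h3
          rw [← h4]; exact hn }

theorem exists_transport {t : G} {Q N M : Subgroup (Subgroup.centralizer ({t} : Set G))}
    (H : Hyp t Q N M) (h : Nonempty (G ≃* G')) :
    ∃ (t : G') (Q N M : Subgroup (Subgroup.centralizer ({t} : Set G'))), Hyp t Q N M := by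
  obtain ⟨e⟩ := h
  exact ⟨_, _, _, _, transport e H⟩

/-- **Every group isomorphic to J4 satisfies the hypotheses of S1670.** -/
theorem exists_hyp_of_iso {K : Type*} [Group K] (h : Cfsg.Spor.IsoJ4 K) :
    ∃ (t : K) (Q N M : Subgroup (Subgroup.centralizer ({t} : Set K))), Hyp t Q N M := by
  obtain ⟨e⟩ := h
  obtain ⟨Q, N, M, H⟩ := HypR.exists_hyp
  have hfin : Finite Cfsg.Agent.J4M.Base.R := inferInstance
  have hs : IsSimpleGroup Cfsg.Agent.J4M.Base.R := Cfsg.Agent.J4M.SimpleR.isJ4_R.1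
  obtain ⟨f, hf⟩ := Cfsg.Agent.J4Type.Top.main H
  exact exists_transport H ⟨(MulEquiv.ofBijective f hf).symm.trans e.symm⟩

end Cfsg.Agent.KFacts.J4.Transport

end

-- merged: Cfsg.Agent.KFacts.J4.Base
section

/-!
# The fourth Janko group: the structure `Compl` and the subgroup `P = C_K(z)^∞`

`exists_compl`: a group isomorphic to `J4` has the whole structure `Compl` of the proof of S1670.
`MM C`: the subgroup `2^{1+12}.3.M22` of index 2 in `C_K(z)`; it is perfect.
-/

set_option autoImplicit false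

namespace Cfsg.Agent.KFacts.J4.Base

open Cfsg Cfsg.Agent.J4Type
open scoped commutatorElement Pointwise

variable {K : Type*} [Group K]

/-- the subgroup `2^{1+12}.3.M22` of `C_K(z)` -/
def MM (C : Cent K) : Subgroup K where
  carrier := {c | ∃ h : c ∈ Subgroup.centralizer ({C.z} : Set K), C.P ⟨c, h⟩ none = none}
  one_mem' := ⟨Subgroup.one_mem _, by
    show C.P 1 none = none
    rw [map_one]; rfl⟩
  mul_mem' := by
    rintro a b ⟨ha, ha'⟩ ⟨hb, hb'⟩
    refine ⟨Subgroup.mul_mem _ ha hb, ?_⟩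
    show C.P (⟨a, ha⟩ * ⟨b, hb⟩) none = none
    rw [map_mul, Equiv.Perm.mul_apply, hb', ha']
  inv_mem' := by
    rintro a ⟨ha, ha'⟩
    refine ⟨Subgroup.inv_mem _ ha, ?_⟩
    show C.P (⟨a, ha⟩⁻¹) none = none
    rw [map_inv, Equiv.Perm.inv_eq_iff_eq, ha']

theorem mem_MM {C : Cent K} {c : K} :
    c ∈ MM C ↔ ∃ h : c ∈ Subgroup.centralizer ({C.z} : Set K), C.P ⟨c, h⟩ none = none := Iff.rfl

theorem comm_z {C : Cent K} {c : K} (hc : c ∈ MM C) : c * C.z = C.z * c := by
  obtain ⟨h, -⟩ := hc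
  exact Subgroup.mem_centralizer_singleton_iff.1 h

theorem MM_le (C : Cent K) : MM C ≤ Subgroup.centralizer ({C.z} : Set K) := fun _ hc => hc.1

/-- `P c` exchanges or fixes the two base points -/
theorem P_none (C : Cent K) (c : Subgroup.centralizer ({C.z} : Set K)) :
    C.P c none = none ∨ C.P c none = some 0 := by
  have h1 : C.P c ∈ M22d := by rw [← C.P_range]; exact ⟨c, rfl⟩
  have h2 : C.P c • base = base := h1.2
  have h3 : C.P c none ∈ C.P c • base := Finset.smul_mem_smul_finset (by simp [base])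
  rw [h2, base] at h3
  simpa using h3

theorem Q_le_MM (C : Cent K) : C.Q ≤ MM C := by
  intro q hq
  have h1 := C.Q_le hq
  refine ⟨h1, ?_⟩
  have h2 : C.P ⟨q, h1⟩ = 1 := (C.P_ker _).2 ⟨q, hq, 0, by simp⟩
  rw [h2]; rfl

theorem z_mem_MM (C : Cent K) : C.z ∈ MM C := Q_le_MM C C.z_mem_Q

theorem rho_mem_cent (C : Cent K) : C.ρ ∈ Subgroup.centralizer ({C.z} : Set K) :=
  Subgroup.mem_centralizer_singleton_iff.2 C.ρ_comm

theorem rho_mem_MM (C : Cent K) : C.ρ ∈ MM C := by
  refine ⟨rho_mem_cent C, ?_⟩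
  have h2 : C.P ⟨C.ρ, rho_mem_cent C⟩ = 1 := (C.P_ker _).2 ⟨1, C.Q.one_mem, 1, by simp⟩
  rw [h2]; rfl

/-- two elements of `C_K(z)` outside `MM` differ by an element of `MM` -/
theorem mul_mem_of_not_mem {C : Cent K} {a b : K} (ha : a * C.z = C.z * a) (hb : b * C.z = C.z * b)
    (ha' : a ∉ MM C) (hb' : b ∉ MM C) : a * b ∈ MM C := by
  have hac := Subgroup.mem_centralizer_singleton_iff.2 ha
  have hbc := Subgroup.mem_centralizer_singleton_iff.2 hb
  have h1 : C.P ⟨a, hac⟩ none = some 0 := (P_none C _).resolve_left fun h => ha' ⟨hac, h⟩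
  have h2 : C.P ⟨b, hbc⟩ none = some 0 := (P_none C _).resolve_left fun h => hb' ⟨hbc, h⟩
  refine ⟨Subgroup.mul_mem _ hac hbc, ?_⟩
  show C.P (⟨a, hac⟩ * ⟨b, hbc⟩) none = none
  rw [map_mul, Equiv.Perm.mul_apply, h2]
  have h3 : C.P ⟨a, hac⟩ ∈ M22d := by rw [← C.P_range]; exact ⟨_, rfl⟩
  have h4 : C.P ⟨a, hac⟩ • base = base := h3.2
  have h5 : C.P ⟨a, hac⟩ (some 0) ∈ C.P ⟨a, hac⟩ • base :=
    Finset.smul_mem_smul_finset (by simp [base])
  rw [h4, base] at h5
  have h6 : C.P ⟨a, hac⟩ (some 0) = none ∨ C.P ⟨a, hac⟩ (some 0) = some 0 := by simpa using h5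
  rcases h6 with h6 | h6
  · exact h6
  · exfalso
    rw [← h6] at h1
    have := (C.P ⟨a, hac⟩).injective h1
    exact absurd this (by simp)

theorem conj_mem {C : Cent K} {a c : K} (ha : a * C.z = C.z * a) (hc : c ∈ MM C) : a * c * a⁻¹ ∈ MM C := by
  by_cases h : a ∈ MM C
  · exact (MM C).mul_mem ((MM C).mul_mem h hc) ((MM C).inv_mem h)
  · have hca : a * c ∉ MM C := fun h1 => h (by
      have := (MM C).mul_mem h1 ((MM C).inv_mem hc)
      rwa [mul_inv_cancel_right] at this)
    have hi : a⁻¹ * C.z = C.z * a⁻¹ := by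
      rw [inv_mul_eq_iff_eq_mul, ← mul_assoc, ha, mul_inv_cancel_right]
    refine mul_mem_of_not_mem ?_ hi hca fun h1 => h (by simpa using (MM C).inv_mem h1)
    rw [mul_assoc, comm_z hc, ← mul_assoc, ha, mul_assoc]

/-- elements of odd order of `C_K(z)` lie in `MM` -/
theorem mem_of_odd {C : Cent K} {a : K} (ha : a * C.z = C.z * a) {n : ℕ} (hn : Odd n) (h1 : a ^ n = 1) :
    a ∈ MM C := by
  by_contra hcon
  obtain ⟨k, rfl⟩ := hn
  have h2 := mul_mem_of_not_mem ha ha hcon hcon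
  apply hcon
  have h3 : a ^ (2 * k) ∈ MM C := by
    rw [pow_mul, pow_two]
    exact (MM C).pow_mem h2 k
  rw [pow_succ] at h1
  have h4 : a = (a ^ (2 * k))⁻¹ := eq_inv_of_mul_eq_one_right h1
  rw [h4]
  exact (MM C).inv_mem h3

/-- both base points -/
theorem P_cases (C : Cent K) (c : Subgroup.centralizer ({C.z} : Set K)) :
    (C.P c none = none ∧ C.P c (some 0) = some 0) ∨ (C.P c none = some 0 ∧ C.P c (some 0) = none) := by
  have h1 : C.P c ∈ M22d := by rw [← C.P_range]; exact ⟨c, rfl⟩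
  exact ((Cfsg.Agent.J4Type.Aut22.mem_D22_iff _).1 h1).2

theorem exists_swap : ∃ g ∈ M22d, g none ≠ none := by
  have h5 : MulAction.IsMultiplyPretransitive M24 GolayPt 5 := Cfsg.Agent.S0366.result
  have h2 : MulAction.IsMultiplyPretransitive M24 GolayPt 2 :=
    MulAction.isMultiplyPretransitive_of_le (n := 5) (by norm_num) (by simp [Cfsg.GolayPt])
  rw [MulAction.is_two_pretransitive_iff] at h2
  obtain ⟨g, h3, h4⟩ := h2 (a := none) (b := some 0) (c := some 0) (d := none) (by simp) (by simp)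
  refine ⟨g, (Cfsg.Agent.J4Type.Aut22.mem_D22_iff _).2 ⟨g.2, Or.inr ⟨h3, h4⟩⟩, ?_⟩
  have h5 : (g : Equiv.Perm GolayPt) none = some 0 := h3
  rw [h5]
  simp

/-- commutators of elements of `C_K(z)` lie in `MM` -/
theorem comm_mem (C : Cent K) (a b : Subgroup.centralizer ({C.z} : Set K)) :
    ((a * b * a⁻¹ * b⁻¹ : Subgroup.centralizer ({C.z} : Set K)) : K) ∈ MM C := by
  refine ⟨(a * b * a⁻¹ * b⁻¹).2, ?_⟩
  show C.P (a * b * a⁻¹ * b⁻¹) none = none
  have hinv : ∀ (c : Subgroup.centralizer ({C.z} : Set K)) (x y : GolayPt), C.P c x = y → C.P c⁻¹ y = x := by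
    rintro c x y rfl
    rw [map_inv]; exact Equiv.symm_apply_apply _ _
  rw [map_mul, map_mul, map_mul]
  simp only [Equiv.Perm.mul_apply]
  rcases P_cases C a with ⟨a1, a2⟩ | ⟨a1, a2⟩ <;> rcases P_cases C b with ⟨b1, b2⟩ | ⟨b1, b2⟩
  · rw [hinv b _ _ b1, hinv a _ _ a1, b1, a1]
  · rw [hinv b _ _ b2, hinv a _ _ a2, b2, a1]
  · rw [hinv b _ _ b1, hinv a _ _ a2, b2, a2]
  · rw [hinv b _ _ b2, hinv a _ _ a1, b1, a2]

/-! ### Existence -/

/-- **The whole structure from the hypotheses of S1670.** -/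
theorem exists_compl_of_hyp [Finite K] [IsSimpleGroup K] {t : K}
    {Q N M : Subgroup (Subgroup.centralizer ({t} : Set K))}
    (H : Hyp t Q N M) : ∃ C : J4Type.Compl K, C.z = t ∧
      C.Q = Q.map (Subgroup.centralizer ({t} : Set K)).subtype ∧ Nonempty (CentCoords C.toCent) := by
  obtain ⟨P, hP⟩ := H.exists_isP
  obtain ⟨r, hr, hrQ, hr3, K₀, -⟩ := CoordRels.exists_w H hP
  obtain ⟨H', K', hz, hQ, hom, h0, h1⟩ := HexCoord.exists_hex K₀ (H.P_outer' hP hr hrQ hr3)
  obtain ⟨V⟩ := VCoordOf.exists_vcoord H' K' h0 h1 hom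
  obtain ⟨F, rfl⟩ := PartC.exists_frame H' V H'.toCent.zstar
  obtain ⟨C, rfl⟩ := ComplExists.exists_compl F
  exact ⟨C, hz, hQ, ⟨K'⟩⟩

/-- `MM C` is the subgroup `M` of `Hyp` -/
theorem MM_eq [Finite K] {t : K} {Q N M : Subgroup (Subgroup.centralizer ({t} : Set K))}
    (H : Hyp t Q N M) {C : Cent K} (hz : C.z = t)
    (hQ : C.Q = Q.map (Subgroup.centralizer ({t} : Set K)).subtype) :
    MM C = M.map (Subgroup.centralizer ({t} : Set K)).subtype := by
  subst hz
  -- `M ≤ MM`
  have hle : ∀ m ∈ M, (m : K) ∈ MM C := by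
    intro m hm
    have h1 : (⁅M, M⁆ ⊔ Q : Subgroup _) ≤ (MM C).comap (Subgroup.centralizer ({C.z} : Set K)).subtype := by
      rw [sup_le_iff, Subgroup.commutator_le]
      refine ⟨fun a _ b _ => ?_, fun q hq => ?_⟩
      · rw [commutatorElement_def]
        exact comm_mem C a b
      · apply Q_le_MM
        rw [hQ]
        exact ⟨q, hq, rfl⟩
    exact h1 (H.perf hm)
  -- `MM` is proper
  obtain ⟨g, hg, hg'⟩ := exists_swap
  rw [← C.P_range] at hg
  obtain ⟨c, rfl⟩ := hg
  have hcM : c ∉ M := fun h => hg' (by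
    obtain ⟨_, h1⟩ := hle c h
    exact h1)
  apply le_antisymm
  · intro x hx
    obtain ⟨hxc, hx2⟩ := hx
    by_cases hxM : (⟨x, hxc⟩ : Subgroup.centralizer ({C.z} : Set K)) ∈ M
    · exact ⟨_, hxM, rfl⟩
    · exfalso
      have h1 : ⟨x, hxc⟩ * c ∈ M := (Subgroup.mul_mem_iff_of_index_two H.index_M).2
        ⟨fun h => absurd h hxM, fun h => absurd h hcM⟩
      obtain ⟨_, h2⟩ := hle _ h1
      have h3 : C.P (⟨x, hxc⟩ * c) none = none := h2
      rw [map_mul, Equiv.Perm.mul_apply] at h3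
      have h4 : C.P ⟨x, hxc⟩ (C.P c none) = C.P ⟨x, hxc⟩ none := h3.trans hx2.symm
      exact hg' ((C.P ⟨x, hxc⟩).injective h4)
  · rintro _ ⟨m, hm, rfl⟩
    exact hle m hm

/-! ### Perfectness -/

open Cfsg.Agent.J4Type.PreHexA Cfsg.Agent.J4Type.PreHexLin

/-- every element of `Q` is a commutator with `ρ`, up to `z` -/
theorem exists_comm_rho {C : Cent K} (D : CentCoords C) {q : K} (hq : q ∈ C.Q) :
    ∃ q' ∈ C.Q, q = C.ρ * q' * C.ρ⁻¹ * q'⁻¹ ∨ q = C.z * (C.ρ * q' * C.ρ⁻¹ * q'⁻¹) := by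
  have h1 : D.om + 1 ≠ 0 := by
    have h2 := D.om_ne_one
    generalize D.om = x at h2
    revert x
    decide
  obtain ⟨q', hq', h2⟩ := D.co_surj (scm (D.om + 1)⁻¹ (D.co q))
  refine ⟨q', hq', ?_⟩
  have hm : C.ρ * q' * C.ρ⁻¹ ∈ C.Q := C.Q_conj C.ρ C.ρ_comm q' hq'
  rw [← co_eq_iff D hq (C.Q.mul_mem hm (C.Q.inv_mem hq')), D.co_mul _ hm _ (C.Q.inv_mem hq'),
    co_inv D hq', D.co_rho q' hq', h2]
  have h3 : ∀ v : V6, scm D.om v + v = scm (D.om + 1) v := by
    intro v
    refine Prod.ext (funext fun k => ?_) (funext fun k => ?_)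
    · show D.om * v.1 k + v.1 k = (D.om + 1) * v.1 k
      rw [add_mul, one_mul]
    · show D.om * v.2 k + v.2 k = (D.om + 1) * v.2 k
      rw [add_mul, one_mul]
  rw [h3, scm_scm, mul_inv_cancel₀ h1, scm_one]

/-- **`MM` is perfect.** -/
theorem perfect [Finite K] {C : Cent K} (D : CentCoords C) (hle : MM C ≤ ⁅MM C, MM C⁆ ⊔ C.Q) :
    ⁅MM C, MM C⁆ = MM C := by
  have hDM : ⁅MM C, MM C⁆ ≤ MM C := by
    rw [Subgroup.commutator_le]
    intro a ha b hb
    rw [commutatorElement_def]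
    exact (MM C).mul_mem ((MM C).mul_mem ((MM C).mul_mem ha hb) ((MM C).inv_mem ha)) ((MM C).inv_mem hb)
  have hn : ∀ x ∈ MM C, ∀ d ∈ ⁅MM C, MM C⁆, x * d * x⁻¹ ∈ ⁅MM C, MM C⁆ := by
    intro x hx d hd
    have h1 : ⁅x, d⁆ ∈ ⁅MM C, MM C⁆ := Subgroup.commutator_mem_commutator hx (hDM hd)
    have h2 := Subgroup.mul_mem _ h1 hd
    rw [commutatorElement_def] at h2
    have h3 : x * d * x⁻¹ * d⁻¹ * d = x * d * x⁻¹ := by group
    rwa [h3] at h2
  have hcomm : ∀ a ∈ MM C, ∀ b ∈ MM C, a * b * a⁻¹ * b⁻¹ ∈ ⁅MM C, MM C⁆ := fun a ha b hb =>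
    Subgroup.commutator_mem_commutator ha hb
  -- `z ∈ MM'`
  have hz : C.z ∈ ⁅MM C, MM C⁆ := by
    by_contra hz
    have h1 : ∀ a ∈ C.Q, ∀ b ∈ C.Q, a * b = b * a := by
      intro a ha b hb
      rcases C.Q_comm a ha b hb with h | h
      · exact h
      · exfalso
        apply hz
        have h2 := hcomm a (Q_le_MM C ha) b (Q_le_MM C hb)
        rw [h] at h2
        have h3 : C.z * (b * a) * a⁻¹ * b⁻¹ = C.z := by group
        rwa [h3] at h2
    have h2 : ∀ a ∈ C.Q, a = 1 ∨ a = C.z := fun a ha => C.Q_cent a (h1 a ha)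
    have h3 : (C.Q : Set K) ⊆ {1, C.z} := fun a ha => h2 a ha
    have h4 := Set.ncard_le_ncard h3 (Set.toFinite _)
    have h5 : (C.Q : Set K).ncard = 2 ^ 13 := C.Q_card
    have h6 := Set.ncard_insert_le (1 : K) {C.z}
    rw [Set.ncard_singleton] at h6
    omega
  -- `ρ ∈ MM'`
  have hρ : C.ρ ∈ ⁅MM C, MM C⁆ := by
    have hQn : ∀ x ∈ ⁅MM C, MM C⁆, ∀ q ∈ C.Q, x * q * x⁻¹ ∈ C.Q := fun x hx q hq =>
      C.Q_conj x (comm_z (hDM hx)) q hq
    have h1 := hle (rho_mem_MM C)
    -- `ρ = d q`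
    have h2 : ∃ d ∈ ⁅MM C, MM C⁆, ∃ q ∈ C.Q, C.ρ = d * q := by
      have h3 : ∀ x ∈ (⁅MM C, MM C⁆ ⊔ C.Q : Subgroup K), ∃ d ∈ ⁅MM C, MM C⁆, ∃ q ∈ C.Q, x = d * q := by
        intro x hx
        let S : Subgroup K :=
          { carrier := {x | ∃ d ∈ ⁅MM C, MM C⁆, ∃ q ∈ C.Q, x = d * q}
            one_mem' := ⟨1, Subgroup.one_mem _, 1, C.Q.one_mem, (one_mul 1).symm⟩
            mul_mem' := by
              rintro x y ⟨d, hd, q, hq, rfl⟩ ⟨d', hd', q', hq', rfl⟩
              refine ⟨d * (q * d' * q⁻¹), Subgroup.mul_mem _ hd (hn q (Q_le_MM C hq) d' hd'), q * q',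
                C.Q.mul_mem hq hq', by group⟩
            inv_mem' := by
              rintro x ⟨d, hd, q, hq, rfl⟩
              refine ⟨q⁻¹ * d⁻¹ * q⁻¹⁻¹, hn _ (Q_le_MM C (C.Q.inv_mem hq)) _ (Subgroup.inv_mem _ hd), q⁻¹,
                C.Q.inv_mem hq, by group⟩ }
        have hS : (⁅MM C, MM C⁆ ⊔ C.Q : Subgroup K) ≤ S := sup_le
          (fun x hx => ⟨x, hx, 1, C.Q.one_mem, (mul_one x).symm⟩)
          (fun x hx => ⟨1, Subgroup.one_mem _, x, hx, (one_mul x).symm⟩)
        exact hS hx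
      exact h3 _ h1
    obtain ⟨d, hd, q, hq, h3⟩ := h2
    -- `ρ ≡ q`, `ρ⁴ ≡ q⁴ = 1`
    have h4 : ∀ n : ℕ, C.ρ ^ n * (q ^ n)⁻¹ ∈ ⁅MM C, MM C⁆ := by
      intro n
      induction n with
      | zero => rw [pow_zero, pow_zero, inv_one, mul_one]; exact Subgroup.one_mem _
      | succ n ih =>
        have h5 : C.ρ ^ (n + 1) * (q ^ (n + 1))⁻¹ =
            C.ρ ^ n * (q ^ n)⁻¹ * (q ^ n * d * (q ^ n)⁻¹) := by
          rw [pow_succ, pow_succ]
          nth_rw 2 [h3]
          group
        rw [h5]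
        exact Subgroup.mul_mem _ ih (hn _ ((MM C).pow_mem (Q_le_MM C hq) n) d hd)
    have h5 := h4 4
    have h6 : q ^ 4 = 1 := by
      have h7 : q ^ 4 = (q * q) * (q * q) := by
        rw [show (4 : ℕ) = 1 + 1 + 1 + 1 by norm_num, pow_add, pow_add, pow_add, pow_one]; group
      rw [h7]
      rcases C.Q_sq q hq with h8 | h8
      · rw [h8, one_mul]
      · rw [h8]; exact zz C
    have h7 : C.ρ ^ 4 = C.ρ := by
      have h8 : C.ρ ^ 3 = 1 := by
        have := pow_orderOf_eq_one C.ρ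
        rwa [C.ρ_order] at this
      rw [show (4 : ℕ) = 3 + 1 by norm_num, pow_add, h8, one_mul, pow_one]
    rw [h6, h7, inv_one, mul_one] at h5
    exact h5
  -- `Q ≤ MM'`
  have hQ : C.Q ≤ ⁅MM C, MM C⁆ := by
    intro q hq
    obtain ⟨q', hq', h | h⟩ := exists_comm_rho D hq
    · rw [h]
      exact hcomm _ (rho_mem_MM C) _ (Q_le_MM C hq')
    · rw [h]
      exact Subgroup.mul_mem _ hz (hcomm _ (rho_mem_MM C) _ (Q_le_MM C hq'))
  exact le_antisymm hDM (hle.trans (sup_le le_rfl hQ))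

/-- the data for `J4` -/
structure Full (K : Type*) [Group K] where
  C : J4Type.Compl K
  D : CentCoords C.toCent
  perf : ⁅MM C.toCent, MM C.toCent⁆ = MM C.toCent

theorem exists_full_of_hyp [Finite K] [IsSimpleGroup K] {t : K}
    {Q N M : Subgroup (Subgroup.centralizer ({t} : Set K))} (H : Hyp t Q N M) : Nonempty (Full K) := by
  obtain ⟨C, hz, hQ, ⟨D⟩⟩ := exists_compl_of_hyp H
  refine ⟨⟨C, D, perfect D ?_⟩⟩
  rw [MM_eq H hz hQ, hQ, ← Subgroup.map_commutator, ← Subgroup.map_sup]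
  exact Subgroup.map_mono H.perf

theorem full_of_equiv {A : Type*} [Group A] [Finite A] (hs : IsSimpleGroup A) {t : A}
    {Q N M : Subgroup (Subgroup.centralizer ({t} : Set A))} (H : Hyp t Q N M)
    {K : Type*} [Group K] (e : A ≃* K) : Finite K ∧ IsSimpleGroup K ∧ Nonempty (Full K) := by
  have hfin' : Finite K := Finite.of_equiv _ e.toEquiv
  have hs' : IsSimpleGroup K := e.symm.isSimpleGroup
  obtain ⟨t, Q, N, M, H'⟩ := Transport.exists_transport H ⟨e⟩
  exact ⟨hfin', hs', exists_full_of_hyp H'⟩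

/-- **A group isomorphic to `J4` has all the data.** -/
theorem exists_full {K : Type*} [Group K] (h : Cfsg.Spor.IsoJ4 K) :
    Finite K ∧ IsSimpleGroup K ∧ Nonempty (Full K) := by
  obtain ⟨e⟩ := h
  obtain ⟨Q, N, M, H⟩ := HypR.exists_hyp
  have hfin : Finite Cfsg.Agent.J4M.Base.R := inferInstance
  have hs : IsSimpleGroup Cfsg.Agent.J4M.Base.R := Cfsg.Agent.J4M.SimpleR.isJ4_R.1
  obtain ⟨f, hf⟩ := Cfsg.Agent.J4Type.Top.main H
  exact full_of_equiv hs H ((MulEquiv.ofBijective f hf).symm.trans e.symm)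

end Cfsg.Agent.KFacts.J4.Base

end
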